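import Groth.Agent.DPF49.ProjSec
import Groth.Agent.LimTop61.PullBC
import Groth.Agent.HTor49.BoxLoc
import Groth.Agent.EGA73.Invertible
import Groth.Agent.Amp73.Pullback
import Groth.Agent.Omega57.Pull
import Groth.Agent.QCqs72.Basic
import Groth.Prelude.Def_Formal
import Mathlib.AlgebraicGeometry.Morphisms.Affine
import Mathlib.RingTheory.IsTensorProduct

/-!
Maps out of inverse images on affine schemes and affine base change for modules.
-/

set_option autoImplicit false
set_option backward.isDefEq.respectTransparency false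
set_option backward.isDefEq.respectTransparency.types false
set_option maxSynthPendingDepth 6
set_option linter.style.haveILetI false

noncomputable section

universe u

open CategoryTheory CategoryTheory.Limits Opposite AlgebraicGeometry
open Groth.Agent.QC70 Groth.Agent.QCPull72
open scoped TensorProduct

namespace Groth.Agent.BC49

section Unit

variable {X : Scheme.{u}}

/-- The unit section of the structure sheaf. -/
abbrev one' (X : Scheme.{u}) (U : X.Opens) : Γ(Coh.structureModule X, U) := (1 : Γ(X, U))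

lemma app_eq_smul {M : X.Modules} (φ : Coh.structureModule X ⟶ M) (U : X.Opens) (c : Γ(X, U)) :
    φ.app U (show Γ(Coh.structureModule X, U) from c) = c • φ.app U (one' X U) := by
  refine Eq.trans ?_ (φ.app_smul c (one' X U))
  exact congrArg (φ.app U) (mul_one c).symm

lemma res_one' {U V : X.Opens} (h : V ≤ U) : res (Coh.structureModule X) h (one' X U) = one' X V :=
  map_one (X.presheaf.map (homOfLE h).op).hom

/-- Maps out of the structure sheaf are determined by the image of one. -/
theorem hom_ext_unit {M : X.Modules} (φ φ' : Coh.structureModule X ⟶ M)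
    (h : φ.app ⊤ (one' X ⊤) = φ'.app ⊤ (one' X ⊤)) : φ = φ' := by
  refine Scheme.Modules.hom_ext _ _ fun W => ?_
  ext c
  refine (app_eq_smul φ W c).trans (Eq.trans ?_ (app_eq_smul φ' W c).symm)
  refine congrArg ((show Γ(X, W) from c) • ·) ?_
  rw [← res_one' (le_top (a := W)), app_res, app_res, h]

/-- Maps out of a quasi-coherent module on an affine scheme are determined by the global sections. -/
theorem hom_ext_sections [IsAffine X] {F T : X.Modules} [F.IsQuasicoherent] (α β : F ⟶ T)
    (h : ∀ s : Coh.structureModule X ⟶ F, s ≫ α = s ≫ β) : α = β := by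
  refine Omega57.hom_ext_top (isAffineOpen_top X) α β fun m => ?_
  have h1 := congr(Scheme.Modules.Hom.app $(h (EGA73.unitHom F m)) ⊤ (one' X ⊤))
  have h2 : (EGA73.unitHom F m).app ⊤ (one' X ⊤) = m :=
    (EGA73.unitHom_app F m ⊤ 1).trans ((one_smul _ _).trans (res_self m))
  rw [Scheme.Modules.Hom.comp_app, Scheme.Modules.Hom.comp_app] at h1
  change α.app ⊤ ((EGA73.unitHom F m).app ⊤ (one' X ⊤)) = β.app ⊤ ((EGA73.unitHom F m).app ⊤ (one' X ⊤)) at h1
  rwa [h2] at h1

/-- A global function on an open. -/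
abbrev rT (X : Scheme.{u}) (U : X.Opens) : Coh.Γtop X →+* Γ(X, U) := (X.presheaf.map (homOfLE (le_top (a := U))).op).hom

/-- Multiplication by a global function, natural in the module. -/
def scal (X : Scheme.{u}) (r : Coh.Γtop X) : 𝟭 X.Modules ⟶ 𝟭 X.Modules where
  app M := Formal.smulModΓ M r
  naturality {M N} φ := by
    refine Scheme.Modules.hom_ext _ _ fun U => ?_
    ext m
    exact (φ.app_smul (rT X U r) m).symm

lemma scal_app_apply (r : Coh.Γtop X) (M : X.Modules) (U : X.Opens) (m : Γ(M, U)) :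
    ((scal X r).app M).app U m = rT X U r • m := rfl

lemma scal_comp (r s : Coh.Γtop X) : scal X r ≫ scal X s = scal X (s * r) := by
  ext M : 2
  refine Scheme.Modules.hom_ext _ _ fun U => ?_
  ext m
  change rT X U s • (rT X U r • m) = rT X U (s * r) • m
  rw [← mul_smul, map_mul]

lemma scal_one : scal X 1 = 𝟙 _ := by
  ext M : 2
  refine Scheme.Modules.hom_ext _ _ fun U => ?_
  ext m
  change rT X U 1 • m = m
  rw [map_one]
  exact one_smul _ _

/-- Every endomorphism of the structure sheaf is a multiplication. -/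
theorem exists_scal (e : Coh.structureModule X ⟶ Coh.structureModule X) :
    ∃ r : Coh.Γtop X, (scal X r).app (Coh.structureModule X) = e := by
  refine ⟨(show Γ(X, ⊤) from e.app ⊤ (one' X ⊤)), hom_ext_unit _ _ ?_⟩
  refine (scal_app_apply _ _ _ _).trans ((mul_one (M := Γ(X, ⊤)) _).trans ?_)
  exact congr($(X.presheaf.map_id (op (⊤ : X.Opens))) _)

/-- An automorphism of a module isomorphic to the structure sheaf is a natural automorphism. -/
theorem exists_scal_iso {N : X.Modules} (ψ : N ≅ Coh.structureModule X) (e : N ⟶ N) [IsIso e] :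
    ∃ Φ : 𝟭 X.Modules ≅ 𝟭 X.Modules, Φ.hom.app N = e := by
  obtain ⟨r, hr⟩ := exists_scal (ψ.inv ≫ e ≫ ψ.hom)
  obtain ⟨r', hr'⟩ := exists_scal (ψ.inv ≫ inv e ≫ ψ.hom)
  have key : ∀ {p q : Coh.Γtop X}, (scal X p).app (Coh.structureModule X) = (scal X q).app (Coh.structureModule X) →
      scal X p = scal X q := fun {p q} h => by
    have h1 := congr(Scheme.Modules.Hom.app $h ⊤ (one' X ⊤))
    rw [scal_app_apply, scal_app_apply] at h1
    have h2 : p = q := by
      have hp : ∀ t : Coh.Γtop X, (rT X ⊤ t • one' X ⊤ : Γ(Coh.structureModule X, ⊤)) = t := fun t =>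
        (mul_one (M := Γ(X, ⊤)) _).trans congr($(X.presheaf.map_id (op (⊤ : X.Opens))) _)
      exact (hp p).symm.trans (h1.trans (hp q))
    rw [h2]
  refine ⟨⟨scal X r, scal X r', ?_, ?_⟩, ?_⟩
  · rw [scal_comp, ← scal_one]
    refine key ?_
    rw [← scal_comp, scal_one, NatTrans.comp_app, hr, hr']
    simp
  · rw [scal_comp, ← scal_one]
    refine key ?_
    rw [← scal_comp, scal_one, NatTrans.comp_app, hr, hr']
    simp
  · have h := (scal X r).naturality ψ.hom
    dsimp only [Functor.id_obj, Functor.id_map] at h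
    rw [hr, Iso.hom_inv_id_assoc] at h
    exact (cancel_mono ψ.hom).1 h.symm

end Unit

section BaseChange

variable {X Y X' Y' : Scheme.{u}} (a : X ⟶ Y) (g : Y' ⟶ Y) (a' : X' ⟶ Y') (g' : X' ⟶ X)

/-- The unit of `a_*` on the structure sheaf. -/
abbrev unitPush : Coh.structureModule Y ⟶ (Scheme.Modules.pushforward a).obj (Coh.structureModule X) :=
  (Scheme.Modules.pullbackPushforwardAdjunction a).homEquiv _ _ (PicLoc.pullbackStructureIso a).hom

lemma unitPush_one (U : Y.Opens) : (unitPush a).app U (one' Y U) = one' X (a ⁻¹ᵁ U) := by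
  rw [unitPush, Adjunction.homEquiv_unit]
  exact Amp73.pullbackStructureIso_pullS a U

/-- Maps out of an inverse image of a quasi-coherent module on an affine scheme. -/
theorem hom_ext_pullback [IsAffine Y] {F : Y.Modules} [F.IsQuasicoherent] {T : Y'.Modules}
    (α β : (Scheme.Modules.pullback g).obj F ⟶ T)
    (h : ∀ s : Coh.structureModule Y ⟶ F,
      (Scheme.Modules.pullback g).map s ≫ α = (Scheme.Modules.pullback g).map s ≫ β) : α = β := by
  refine ((Scheme.Modules.pullbackPushforwardAdjunction g).homEquiv F T).injective ?_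
  refine hom_ext_sections _ _ fun s => ?_
  rw [← Adjunction.homEquiv_naturality_left, ← Adjunction.homEquiv_naturality_left, h]

variable (hsq : IsPullback g' a' a g)

/-- The base change map at the generator. -/
theorem unitPush_bcT :
    (Scheme.Modules.pullback g).map (unitPush a) ≫
        (DPF49.bcT a' g' g a hsq.w.symm).app (Coh.structureModule X) =
      (PicLoc.pullbackStructureIso g).hom ≫
        (Scheme.Modules.pullbackPushforwardAdjunction a').homEquiv _ _
          ((PicLoc.pullbackStructureIso a').hom ≫ (PicLoc.pullbackStructureIso g').inv) := by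
  let adj := Scheme.Modules.pullbackPushforwardAdjunction g
  apply (adj.homEquiv _ _).injective
  rw [adj.homEquiv_naturality_left, adj.homEquiv_naturality_right,
    (Scheme.Modules.pullbackPushforwardAdjunction a').homEquiv_naturality_right]
  have h1 : adj.homEquiv _ _ ((DPF49.bcT a' g' g a hsq.w.symm).app (Coh.structureModule X)) =
      (DPF49.bcK a' g' g a hsq.w.symm).app (Coh.structureModule X) := Equiv.apply_symm_apply _ _
  rw [h1]
  refine hom_ext_unit _ _ ?_
  have e : a' ⁻¹ᵁ (g ⁻¹ᵁ (⊤ : Y.Opens)) ≤ g' ⁻¹ᵁ (a ⁻¹ᵁ ⊤) := fun _ _ => trivial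
  have hL := (congrArg (((DPF49.bcK a' g' g a hsq.w.symm).app (Coh.structureModule X)).app ⊤)
    (unitPush_one a ⊤)).trans (DPF49.bcK_app a' g' g a hsq.w.symm (Coh.structureModule X) ⊤ _ e)
  refine hL.trans (Eq.symm ?_)
  let V := a' ⁻¹ᵁ (g ⁻¹ᵁ (⊤ : Y.Opens))
  refine (congrArg (fun z => (PicLoc.pullbackStructureIso g').inv.app V ((unitPush a').app (g ⁻¹ᵁ ⊤) z))
    (unitPush_one g ⊤)).trans ?_
  refine (congrArg ((PicLoc.pullbackStructureIso g').inv.app V) (unitPush_one a' (g ⁻¹ᵁ ⊤))).trans ?_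
  have h2 : (PicLoc.pullbackStructureIso g').inv.app (g' ⁻¹ᵁ (a ⁻¹ᵁ ⊤)) (one' X' _) =
      Amp73.pullS g' (Coh.structureModule X) (a ⁻¹ᵁ ⊤) (one' X _) :=
    (congrArg ((PicLoc.pullbackStructureIso g').inv.app (g' ⁻¹ᵁ (a ⁻¹ᵁ ⊤)))
      (Amp73.pullbackStructureIso_pullS g' (a ⁻¹ᵁ ⊤)).symm).trans
      (ConcreteCategory.congr_hom (congrArg (fun k => Scheme.Modules.Hom.app k (g' ⁻¹ᵁ (a ⁻¹ᵁ ⊤)))
        (PicLoc.pullbackStructureIso g').hom_inv_id) _)
  refine h2.trans (Eq.symm ?_)
  rw [unitSec]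
  exact res_self _

include hsq in
/-- Affine base change for quasi-coherent modules. -/
theorem isIso_bcT [IsAffine X] [IsAffine Y] [IsAffine Y'] (N : X.Modules) [N.IsQuasicoherent] :
    IsIso ((DPF49.bcT a' g' g a hsq.w.symm).app N) := by
  haveI : IsAffine X' := IsAffine.of_isIso hsq.isoPullback.hom
  haveI : ((Scheme.Modules.pushforward a).obj N).IsQuasicoherent := QCqs72.isQuasicoherent_pushforward (M := N) a
  haveI : ((Scheme.Modules.pullback g').obj N).IsQuasicoherent := isQuasicoherent_pullback g' N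
  haveI : ((Scheme.Modules.pushforward a').obj ((Scheme.Modules.pullback g').obj N)).IsQuasicoherent :=
    QCqs72.isQuasicoherent_pushforward (M := (Scheme.Modules.pullback g').obj N) a'
  haveI : ((Scheme.Modules.pullback g).obj ((Scheme.Modules.pushforward a).obj N)).IsQuasicoherent :=
    isQuasicoherent_pullback g _
  haveI : ((Scheme.Modules.pushforward a ⋙ Scheme.Modules.pullback g).obj N).IsQuasicoherent := ‹_›
  haveI : ((Scheme.Modules.pullback g' ⋙ Scheme.Modules.pushforward a').obj N).IsQuasicoherent := by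
    assumption
  refine HTor49.isIso_of_affine_cover _ fun x => ⟨⊤, trivial, isAffineOpen_top Y', ?_⟩
  let U := a ⁻¹ᵁ (⊤ : Y.Opens)
  let W := a' ⁻¹ᵁ (⊤ : Y'.Opens)
  have hU : IsAffineOpen U := isAffineOpen_top X
  have hW : IsAffineOpen W := isAffineOpen_top X'
  have eg : (⊤ : Y'.Opens) ≤ g ⁻¹ᵁ ⊤ := le_top
  have eW : W ≤ g' ⁻¹ᵁ U := fun _ _ => trivial
  letI := (g.appLE ⊤ ⊤ eg).hom.toAlgebra
  letI := (a.appLE ⊤ U le_rfl).hom.toAlgebra
  letI := (a'.appLE ⊤ W le_rfl).hom.toAlgebra
  letI := (g'.appLE U W eW).hom.toAlgebra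
  letI : Algebra Γ(Y, ⊤) Γ(X', W) := (g.appLE ⊤ ⊤ eg ≫ a'.appLE ⊤ W le_rfl).hom.toAlgebra
  have hc : W = a' ⁻¹ᵁ ⊤ ⊓ g' ⁻¹ᵁ U := le_antisymm (le_inf le_rfl eW) inf_le_left
  have h1 := (isIso_pushoutSection_iff hsq.flip le_rfl eg hc).1
    (isIso_pushoutSection_of_isAffineOpen hsq.flip le_rfl eg hc (isAffineOpen_top Y) hU (isAffineOpen_top Y'))
  haveI : IsScalarTower Γ(Y, ⊤) Γ(Y', ⊤) Γ(X', W) := .of_algebraMap_eq' rfl
  haveI : IsScalarTower Γ(Y, ⊤) Γ(X, U) Γ(X', W) :=
    .of_algebraMap_eq' (congrArg CommRingCat.Hom.hom h1.w)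
  haveI : Algebra.IsPushout Γ(Y, ⊤) Γ(Y', ⊤) Γ(X, U) Γ(X', W) :=
    CommRingCat.isPushout_iff_isPushout.1 h1
  letI : Module Γ(Y, ⊤) Γ(N, U) := Module.compHom _ (a.appLE ⊤ U le_rfl).hom
  haveI : IsScalarTower Γ(Y, ⊤) Γ(X, U) Γ(N, U) := IsScalarTower.of_algebraMap_smul fun _ _ => rfl
  obtain ⟨E₁, hE₁⟩ := LimTop61.exists_baseChange_equiv g ((Scheme.Modules.pushforward a).obj N)
    (isAffineOpen_top Y) (isAffineOpen_top Y') eg
  obtain ⟨E₂, hE₂⟩ := LimTop61.exists_baseChange_equiv g' N hU hW eW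
  let idL : Γ((Scheme.Modules.pushforward a).obj N, ⊤) ≃ₗ[Γ(Y, ⊤)] Γ(N, U) :=
    { AddEquiv.refl _ with
      map_smul' := fun r m => by
        show a.app ⊤ r • (show Γ(N, U) from m) = a.appLE ⊤ U le_rfl r • (show Γ(N, U) from m)
        rw [Scheme.Hom.app_eq_appLE] }
  let e := Algebra.IsPushout.cancelBaseChange Γ(Y, ⊤) Γ(Y', ⊤) Γ(X, U) Γ(X', W) Γ(N, U)
  let L := ((DPF49.bcT a' g' g a hsq.w.symm).app N).app ⊤
  have key : ∀ t, E₂ (L (E₁.symm t)) = e.symm (TensorProduct.congr (LinearEquiv.refl _ _) idL t) := by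
    intro t
    induction t using TensorProduct.induction_on with
    | zero => simp only [map_zero]
    | add x y hx hy => simp only [map_add, hx, hy]
    | tmul c y =>
      have h2 : E₁.symm (c ⊗ₜ y) = c • unitSec g ((Scheme.Modules.pushforward a).obj N) eg y := by
        rw [LinearEquiv.symm_apply_eq, map_smul, hE₁]
        rw [TensorProduct.smul_tmul', smul_eq_mul, mul_one]
      rw [h2]
      let z : Γ((Scheme.Modules.pullback g').obj N, W) := unitSec g' N eW (idL y)
      have h3 : L (c • unitSec g ((Scheme.Modules.pushforward a).obj N) eg y) =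
          (show Γ(X', W) from a'.appLE ⊤ W le_rfl c) • z := by
        refine (Scheme.Modules.Hom.app_smul _ c _).trans ?_
        refine (congrArg (fun z => (show Γ(Y', ⊤) from c) • z)
          (DPF49.bcT_unitSec a' g' g a hsq.w.symm N eg eW y)).trans ?_
        show (show Γ(X', W) from a'.app ⊤ c) • z = _
        rw [Scheme.Hom.app_eq_appLE]
      rw [h3, map_smul, hE₂, TensorProduct.congr_tmul]
      refine (LinearEquiv.eq_symm_apply e).2 ?_
      show e (algebraMap Γ(Y', ⊤) Γ(X', W) c • ((1 : Γ(X', W)) ⊗ₜ[Γ(X, U)] idL y)) = c ⊗ₜ idL y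
      rw [algebraMap_smul, map_smul]
      simp [e, TensorProduct.smul_tmul']
  have hb : Function.Bijective (⇑E₂ ∘ ⇑L ∘ ⇑E₁.symm) := by
    rw [show ⇑E₂ ∘ ⇑L ∘ ⇑E₁.symm = fun t => e.symm (TensorProduct.congr (LinearEquiv.refl _ _) idL t)
      from funext key]
    exact e.symm.bijective.comp (TensorProduct.congr (LinearEquiv.refl _ _) idL).bijective
  exact (Function.Bijective.of_comp_iff _ E₁.symm.bijective).1
    ((Function.Bijective.of_comp_iff' E₂.bijective _).1 hb)

end BaseChange

end Groth.Agent.BC49
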