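import Groth.Agent.DPF49.Trans
import Groth.Agent.DPF49.UnitMap
import Groth.Agent.DCK91.LpullKFlat
import Groth.Agent.DCK91.PullFlat
import Groth.Agent.QCohPush72.AffineUnit
import Groth.Agent.QCohPush72.AcyclicUnit
import Mathlib.Algebra.Homology.DerivedCategory.FullyFaithful

/-!
Derived inverse and direct images of modules placed in one degree.
-/

set_option autoImplicit false
set_option backward.isDefEq.respectTransparency false
set_option backward.isDefEq.respectTransparency.types false
set_option linter.style.haveILetI false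

noncomputable section

universe u

open CategoryTheory CategoryTheory.Limits AlgebraicGeometry
open Groth.Agent.DPF49 (pC qC lpullU rpushU)
attribute [local instance] HasDerivedCategory.standard

namespace Groth.Agent.BC49

variable {X Y : Scheme.{u}}

/-- A module as an object of the derived category, in degree `n`. -/
abbrev sg (X : Scheme.{u}) (n : ℤ) : X.Modules ⥤ DCoh.D X :=
  HomologicalComplex.single X.Modules (ComplexShape.up ℤ) n ⋙ DerivedCategory.Q

/-- `sg` is the single functor of the derived category. -/
def sgIso (X : Scheme.{u}) (n : ℤ) : sg X n ≅ DerivedCategory.singleFunctor X.Modules n :=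
  (DerivedCategory.singleFunctorIsoCompQ X.Modules n).symm

instance sg_full (X : Scheme.{u}) (n : ℤ) : (sg X n).Full := Functor.Full.of_iso (sgIso X n).symm

instance sg_faithful (X : Scheme.{u}) (n : ℤ) : (sg X n).Faithful := Functor.Faithful.of_iso (sgIso X n).symm

section Pull

variable (g : X ⟶ Y) [DCoh.HasLpull g] (n : ℤ)

/-- `Lg^* (G[-n]) ⟶ (g^* G)[-n]`. -/
def tau : sg Y n ⋙ DCoh.Lpull g ⟶ Scheme.Modules.pullback g ⋙ sg X n :=
  Functor.whiskerLeft (HomologicalComplex.single Y.Modules (ComplexShape.up ℤ) n) (lpullU g) ≫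
    Functor.whiskerRight (HomologicalComplex.singleMapHomologicalComplex (Scheme.Modules.pullback g)
      (ComplexShape.up ℤ) n).hom DerivedCategory.Q

lemma isIso_tau_of_isIso (G : Y.Modules)
    [IsIso ((lpullU g).app ((HomologicalComplex.single Y.Modules (ComplexShape.up ℤ) n).obj G))] :
    IsIso ((tau g n).app G) := by
  dsimp [tau]
  infer_instance

/-- A resolution decides whether `Lg^*` is computed termwise. -/
theorem isIso_lpullU_iff {P E : CochainComplex Y.Modules ℤ} (p : P ⟶ E) [QuasiIso p]
    (hP : DCK91.KFFh Y ((HomotopyCategory.quotient Y.Modules (ComplexShape.up ℤ)).obj P)) :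
    IsIso ((lpullU g).app E) ↔ QuasiIso ((qC g).map p) := by
  haveI := DPF49.isIso_lpullU g P hP
  haveI : IsIso (DerivedCategory.Q.map p) := (DerivedCategory.isIso_Q_map_iff_quasiIso _ p).2 inferInstance
  have h := (lpullU g).naturality p
  dsimp only [Functor.comp_obj, Functor.comp_map] at h
  rw [← DerivedCategory.isIso_Q_map_iff_quasiIso]
  constructor
  · intro hE
    haveI : IsIso ((lpullU g).app P ≫ DerivedCategory.Q.map ((qC g).map p)) := by rw [← h]; infer_instance
    exact IsIso.of_isIso_comp_left ((lpullU g).app P) _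
  · intro hQ
    haveI : IsIso ((DCoh.Lpull g).map (DerivedCategory.Q.map p) ≫ (lpullU g).app E) := by rw [h]; infer_instance
    exact IsIso.of_isIso_comp_left ((DCoh.Lpull g).map (DerivedCategory.Q.map p)) _

/-- The derived inverse image is computed termwise on K-flat complexes. -/
theorem isIso_lpullU_of_kflat (E : CochainComplex Y.Modules ℤ) (hE : DCoh.IsKFlat E) :
    IsIso ((lpullU g).app E) := by
  obtain ⟨P, p, hP, hPf, hp, -⟩ := Mod48.exists_resolution (O := Y.sheaf) E
  haveI : QuasiIso (C := Y.Modules) p := hp
  refine (isIso_lpullU_iff g (P := P) p ⟨P, rfl, hP, hPf⟩).2 ?_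
  exact (DerivedCategory.isIso_Q_map_iff_quasiIso _ _).1
    (DCK91.isIso_Q_map_pullback g (P := P) p hP hE ((DerivedCategory.isIso_Q_map_iff_quasiIso _ p).2 hp))

/-- Flat modules are acyclic for the inverse image. -/
theorem isIso_tau_of_flat (G : Y.Modules) (hG : FlatMod.IsFlat G) : IsIso ((tau g n).app G) := by
  have hf := DCK91.isFlat_of_flatMod G hG
  haveI := isIso_lpullU_of_kflat g ((HomologicalComplex.single Y.Modules (ComplexShape.up ℤ) n).obj G)
    (Mod48.isKFlat_single_shift (O := Y.sheaf) hf n)
  exact isIso_tau_of_isIso g n G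

instance isIso_tau_unit : IsIso ((tau g n).app (Coh.structureModule Y)) := by
  haveI := isIso_lpullU_of_kflat g (DPF49.unitCx Y n) (DPF49.kff_unitCx Y n).1
  exact isIso_tau_of_isIso g n _

omit [DCoh.HasLpull g] in
/-- The inverse image along a flat morphism is exact. -/
theorem preservesFiniteLimits_pullback_of_flat [Flat g] : PreservesFiniteLimits (Scheme.Modules.pullback g) := by
  haveI : (Scheme.Modules.pullback g).IsLeftAdjoint :=
    (Scheme.Modules.pullbackPushforwardAdjunction g).isLeftAdjoint
  haveI : (Scheme.Modules.pullback g).PreservesMonomorphisms := ⟨fun {A B} u _ =>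
    DCK91.mono_pullback_map g u fun x => by
      letI := (g.stalkMap x).hom.toAlgebra
      haveI : Module.Flat (Y.presheaf.stalk (g x)) (X.presheaf.stalk x) := Flat.stalkMap g x
      exact Module.Flat.rTensor_preserves_injective_linearMap _ (QC70.injective_stalkMapM_of_mono u (g x))⟩
  haveI : (Scheme.Modules.pullback g).PreservesHomology :=
    (Scheme.Modules.pullback g).preservesHomology_of_preservesMonos_and_cokernels
  exact (Scheme.Modules.pullback g).preservesFiniteLimits_of_preservesHomology

/-- Everything is acyclic for a flat inverse image. -/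
theorem isIso_tau_of_flat_hom [Flat g] (G : Y.Modules) : IsIso ((tau g n).app G) := by
  haveI : IsIso ((lpullU g).app ((HomologicalComplex.single Y.Modules (ComplexShape.up ℤ) n).obj G)) := by
    obtain ⟨P, p, hP, hPf, hp, -⟩ :=
      Mod48.exists_resolution (O := Y.sheaf) ((HomologicalComplex.single Y.Modules (ComplexShape.up ℤ) n).obj G)
    haveI : QuasiIso (C := Y.Modules) p := hp
    haveI := preservesFiniteLimits_pullback_of_flat g
    haveI : (Scheme.Modules.pullback g).PreservesHomology :=
      Functor.preservesHomologyOfExact _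
    exact (isIso_lpullU_iff g (P := P) p ⟨P, rfl, hP, hPf⟩).2 inferInstance
  exact isIso_tau_of_isIso g n G

end Pull

section Push

variable (a : X ⟶ Y) [DCoh.HasRpush a] (n : ℤ)

/-- `(a_* G)[-n] ⟶ Ra_* (G[-n])`. -/
def sigma : Scheme.Modules.pushforward a ⋙ sg Y n ⟶ sg X n ⋙ DCoh.Rpush a :=
  Functor.whiskerRight (HomologicalComplex.singleMapHomologicalComplex (Scheme.Modules.pushforward a)
      (ComplexShape.up ℤ) n).inv DerivedCategory.Q ≫
    Functor.whiskerLeft (HomologicalComplex.single X.Modules (ComplexShape.up ℤ) n) (rpushU a)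

theorem isIso_rpushU_of_affineHom [IsAffineHom a] (F : CochainComplex X.Modules ℤ) (hF : ∀ i, Coh.IsQCoh (F.X i)) :
    IsIso ((rpushU a).app F) := by
  haveI : IsIso (((DCoh.pushKh a).totalRightDerivedUnit DerivedCategory.Qh
      (HomotopyCategory.quasiIso X.Modules (ComplexShape.up ℤ))).app
        ((HomotopyCategory.quotient X.Modules (ComplexShape.up ℤ)).obj F)) :=
    QCohPush72.isIso_unit_acyclic a F hF fun m i hi => QCohPush72.isZero_Rpush_affineHom a (F.X m) (hF m) i hi
  dsimp only [DPF49.rpushU]
  infer_instance

/-- Along an affine morphism quasi-coherent modules push forward in their degree. -/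
theorem isIso_sigma [IsAffineHom a] (G : X.Modules) (hG : Coh.IsQCoh G) : IsIso ((sigma a n).app G) := by
  haveI : IsIso ((rpushU a).app ((HomologicalComplex.single X.Modules (ComplexShape.up ℤ) n).obj G)) := by
    refine isIso_rpushU_of_affineHom a _ fun i => ?_
    by_cases h : i = n
    · subst h
      exact QC70.isQuasicoherent_of_iso (HomologicalComplex.singleObjXSelf (ComplexShape.up ℤ) i G).symm hG
    · exact QC70.isQuasicoherent_of_isZero (HomologicalComplex.isZero_single_obj_X _ _ _ _ h)
  dsimp [sigma]
  infer_instance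

end Push

end Groth.Agent.BC49
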