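import Groth.Agent.BC49.Formal
import Groth.Agent.BC49.Single
import Groth.Agent.BC49.ModuleBC

/-!
Base change between affine schemes for modules in one degree.
-/

set_option autoImplicit false
set_option backward.isDefEq.respectTransparency false
set_option backward.isDefEq.respectTransparency.types false
set_option linter.style.haveILetI false

noncomputable section

universe u

open CategoryTheory CategoryTheory.Limits AlgebraicGeometry
attribute [local instance] HasDerivedCategory.standard Groth.Agent.DCX42.hasRpush Groth.Agent.DCK91.hasLpull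

namespace Groth.Agent.BC49

/-- The structure sheaf is quasi-coherent. -/
lemma isQCoh_O (X : Scheme.{u}) : Coh.IsQCoh (Coh.structureModule X) :=
  (inferInstance : (SheafOfModules.unit X.ringCatSheaf).IsQuasicoherent)

section Universal

variable {X Y : Scheme.{u}} (a : X ⟶ Y) (n : ℤ)

lemma sigma_nat {G G' : X.Modules} (x : G ⟶ G') :
    (sg Y n).map ((Scheme.Modules.pushforward a).map x) ≫ (sigma a n).app G' =
      (sigma a n).app G ≫ (DCoh.Rpush a).map ((sg X n).map x) :=
  (sigma a n).naturality x

lemma tau_nat {G G' : Y.Modules} (x : G ⟶ G') :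
    (DCoh.Lpull a).map ((sg Y n).map x) ≫ (tau a n).app G' =
      (tau a n).app G ≫ (sg X n).map ((Scheme.Modules.pullback a).map x) :=
  (tau a n).naturality x

/-- The derived inverse image of the structure sheaf. -/
def eps : (DCoh.Lpull a).obj ((sg Y n).obj (Coh.structureModule Y)) ≅ (sg X n).obj (Coh.structureModule X) :=
  @asIso _ _ _ _ ((tau a n).app (Coh.structureModule Y)) (isIso_tau_unit a n) ≪≫
    (sg X n).mapIso (PicLoc.pullbackStructureIso a)

/-- The transpose of `eps` as a map of modules. -/
def genMap [IsAffineHom a] :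
    Coh.structureModule Y ⟶ (Scheme.Modules.pushforward a).obj (Coh.structureModule X) :=
  (sg Y n).preimage ((DCX42.LpullRpushAdj a).homEquiv _ _ (eps a n).hom ≫
    @inv _ _ _ _ ((sigma a n).app (Coh.structureModule X))
      (isIso_sigma a n _ (isQCoh_O X)))

lemma map_genMap [IsAffineHom a] :
    (sg Y n).map (genMap a n) ≫ (sigma a n).app (Coh.structureModule X) =
      (DCX42.LpullRpushAdj a).homEquiv _ _ (eps a n).hom := by
  rw [genMap, Functor.map_preimage, Category.assoc, IsIso.inv_hom_id]
  exact Category.comp_id _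

/-- A section of a direct image factors uniquely through the generator. -/
theorem existsUnique_factor [IsAffineHom a] {G : X.Modules} (hG : Coh.IsQCoh G)
    (s : Coh.structureModule Y ⟶ (Scheme.Modules.pushforward a).obj G) :
    ∃! x : Coh.structureModule X ⟶ G, genMap a n ≫ (Scheme.Modules.pushforward a).map x = s := by
  haveI := isIso_sigma a n G hG
  let A := DCX42.LpullRpushAdj a
  have key : ∀ x : Coh.structureModule X ⟶ G,
      (sg Y n).map (genMap a n ≫ (Scheme.Modules.pushforward a).map x) ≫ (sigma a n).app G =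
        A.homEquiv _ _ ((eps a n).hom ≫ (sg X n).map x) := fun x => by
    have h := sigma_nat a n x
    rw [Functor.map_comp, Category.assoc]
    refine (congrArg ((sg Y n).map (genMap a n) ≫ ·) h).trans ?_
    rw [← Category.assoc, map_genMap, ← A.homEquiv_naturality_right]
  refine ⟨(sg X n).preimage ((eps a n).inv ≫ (A.homEquiv _ _).symm ((sg Y n).map s ≫ (sigma a n).app G)), ?_,
    fun x hx => ?_⟩
  · refine (sg Y n).map_injective ((cancel_mono ((sigma a n).app G)).1 ((key _).trans ?_))
    rw [Functor.map_preimage, Iso.hom_inv_id_assoc]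
    exact Equiv.apply_symm_apply _ _
  · refine (sg X n).map_injective ?_
    rw [Functor.map_preimage, Iso.eq_inv_comp, ← Equiv.apply_eq_iff_eq (A.homEquiv _ _), ← key, hx]
    exact (Equiv.apply_symm_apply _ _).symm

/-- The generator agrees with the unit of `a_*` up to an automorphism. -/
theorem exists_genMap_eq [IsAffineHom a] :
    ∃ v : Coh.structureModule X ≅ Coh.structureModule X,
      genMap a n = unitPush a ≫ (Scheme.Modules.pushforward a).map v.hom := by
  let M := Scheme.Modules.pullbackPushforwardAdjunction a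
  let P := PicLoc.pullbackStructureIso a
  have hqc := isQCoh_O X
  have hu : ∀ v : Coh.structureModule X ⟶ Coh.structureModule X,
      unitPush a ≫ (Scheme.Modules.pushforward a).map v = M.homEquiv _ _ (P.hom ≫ v) := fun v =>
    (M.homEquiv_naturality_right _ _).symm
  let v' := P.inv ≫ (M.homEquiv _ _).symm (genMap a n)
  have h1 : genMap a n = unitPush a ≫ (Scheme.Modules.pushforward a).map v' := by
    rw [hu, Iso.hom_inv_id_assoc]
    exact (Equiv.apply_symm_apply _ _).symm
  obtain ⟨v, hv, -⟩ := existsUnique_factor a n hqc (unitPush a)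
  refine ⟨⟨v', v, ?_, ?_⟩, h1⟩
  · apply (cancel_epi P.hom).1
    refine (M.homEquiv _ _).injective ?_
    refine (hu _).symm.trans (Eq.trans ?_ (congrArg (M.homEquiv _ _) (Category.comp_id P.hom).symm))
    rw [Functor.map_comp, ← Category.assoc, ← h1, hv]
  · refine (existsUnique_factor a n hqc (genMap a n)).unique ?_ ?_
    · rw [Functor.map_comp, ← Category.assoc, hv, ← h1]
    · rw [CategoryTheory.Functor.map_id, Category.comp_id]

end Universal

variable {X Y X' Y' : Scheme.{u}} (a : X ⟶ Y) (g : Y' ⟶ Y) (a' : X' ⟶ Y') (g' : X' ⟶ X)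

/-- **Base change for a quasi-coherent module whose direct image is acyclic for the inverse image.** -/
theorem isIso_bc_single [IsAffine X] [IsAffine Y] [IsAffine Y'] (hsq : IsPullback g' a' a g)
    (θ : DCoh.Lpull g ⋙ DCoh.Lpull a' ≅ DCoh.Lpull a ⋙ DCoh.Lpull g') (n : ℤ) (G : X.Modules)
    (hG : Coh.IsQCoh G) (hτ : IsIso ((tau g n).app ((Scheme.Modules.pushforward a).obj G))) :
    IsIso ((bc (DCX42.LpullRpushAdj a) (DCX42.LpullRpushAdj a') θ.hom).app ((sg X n).obj G) ≫
      (DCoh.Rpush a').map ((tau g' n).app G)) := by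
  haveI : IsAffine X' := IsAffine.of_isIso hsq.isoPullback.hom
  haveI : IsAffineHom a := inferInstance
  haveI : IsAffineHom a' := inferInstance
  haveI : G.IsQuasicoherent := hG
  haveI := isIso_sigma a n G hG
  have hO := isQCoh_O X
  haveI : (Coh.structureModule X).IsQuasicoherent := hO
  let N₀ := (Scheme.Modules.pullback g').obj (Coh.structureModule X)
  let N := (Scheme.Modules.pullback g').obj G
  have hN₀ : Coh.IsQCoh N₀ := QCPull72.isQuasicoherent_pullback g' _
  have hN : Coh.IsQCoh N := QCPull72.isQuasicoherent_pullback g' G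
  haveI := isIso_sigma a' n N₀ hN₀
  haveI := isIso_sigma a' n N hN
  haveI : ((Scheme.Modules.pushforward a).obj G).IsQuasicoherent := QCqs72.isQuasicoherent_pushforward (M := G) a
  let A := DCX42.LpullRpushAdj a
  let A' := DCX42.LpullRpushAdj a'
  let β := bc A A' θ.hom
  let O := Coh.structureModule Y
  let pf' := Scheme.Modules.pushforward a'
  -- the map on the source in one degree
  let ω : ∀ F : X.Modules, (DCoh.Lpull g).obj ((sg Y n).obj ((Scheme.Modules.pushforward a).obj F)) ⟶
      (DCoh.Rpush a').obj ((sg X' n).obj ((Scheme.Modules.pullback g').obj F)) := fun F =>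
    (DCoh.Lpull g).map ((sigma a n).app F) ≫ β.app ((sg X n).obj F) ≫ (DCoh.Rpush a').map ((tau g' n).app F)
  have hnat : ∀ {F F' : X.Modules} (x : F ⟶ F'),
      (DCoh.Lpull g).map ((sg Y n).map ((Scheme.Modules.pushforward a).map x)) ≫ ω F' =
        ω F ≫ (DCoh.Rpush a').map ((sg X' n).map ((Scheme.Modules.pullback g').map x)) := fun {F F'} x => by
    have h1 : (DCoh.Lpull g).map ((sg Y n).map ((Scheme.Modules.pushforward a).map x)) ≫
        (DCoh.Lpull g).map ((sigma a n).app F') = (DCoh.Lpull g).map ((sigma a n).app F) ≫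
          (DCoh.Lpull g).map ((DCoh.Rpush a).map ((sg X n).map x)) := by
      rw [← Functor.map_comp, sigma_nat]
      exact Functor.map_comp _ _ _
    have h2 : (DCoh.Lpull g).map ((DCoh.Rpush a).map ((sg X n).map x)) ≫ β.app ((sg X n).obj F') =
        β.app ((sg X n).obj F) ≫ (DCoh.Rpush a').map ((DCoh.Lpull g').map ((sg X n).map x)) :=
      β.naturality ((sg X n).map x)
    have h3 : (DCoh.Rpush a').map ((DCoh.Lpull g').map ((sg X n).map x)) ≫ (DCoh.Rpush a').map ((tau g' n).app F') =
        (DCoh.Rpush a').map ((tau g' n).app F) ≫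
          (DCoh.Rpush a').map ((sg X' n).map ((Scheme.Modules.pullback g').map x)) := by
      rw [← Functor.map_comp, tau_nat]
      exact Functor.map_comp _ _ _
    simp only [ω, Category.assoc]
    rw [← Category.assoc, h1, Category.assoc]
    refine congrArg ((DCoh.Lpull g).map ((sigma a n).app F) ≫ ·) ?_
    rw [← Category.assoc, h2, Category.assoc]
    exact congrArg (β.app ((sg X n).obj F) ≫ ·) h3
  haveI : IsIso ((tau g n).app O) := isIso_tau_unit g n
  haveI : IsIso ((tau g' n).app (Coh.structureModule X)) := isIso_tau_unit g' n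
  haveI := hτ
  let t₀ := (DCoh.Lpull g).map ((sg Y n).map (genMap a n)) ≫ ω (Coh.structureModule X)
  let z₀ : (Scheme.Modules.pullback g).obj O ⟶ pf'.obj N₀ :=
    (sg Y' n).preimage (inv ((tau g n).app O) ≫ t₀ ≫ inv ((sigma a' n).app N₀))
  let ι : (DCoh.Lpull a').obj ((DCoh.Lpull g).obj ((sg Y n).obj O)) ⟶ (sg X' n).obj N₀ :=
    θ.hom.app _ ≫ (DCoh.Lpull g').map (eps a n).hom ≫ (tau g' n).app (Coh.structureModule X)
  haveI : IsIso ι := inferInstance
  have ht₀ : t₀ = A'.homEquiv _ _ ι := by
    simp only [t₀, ω]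
    rw [← Category.assoc, ← Functor.map_comp, map_genMap, ← Category.assoc]
    refine (congrArg (· ≫ (DCoh.Rpush a').map ((tau g' n).app (Coh.structureModule X)))
      (bc_homEquiv A A' θ.hom (eps a n).hom)).trans ?_
    rw [← A'.homEquiv_naturality_right]
    simp only [ι, Category.assoc]
    rfl
  have hz₀ : ∀ {T : X'.Modules} (hT : Coh.IsQCoh T) (e : N₀ ⟶ T),
      (tau g n).app O ≫ (sg Y' n).map (z₀ ≫ pf'.map e) ≫ (sigma a' n).app T =
        A'.homEquiv _ _ (ι ≫ (sg X' n).map e) := fun {T} hT e => by
    have h := sigma_nat a' n e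
    rw [Functor.map_comp, Category.assoc]
    refine (congrArg (fun k => (tau g n).app O ≫ (sg Y' n).map z₀ ≫ k) h).trans ?_
    rw [Functor.map_preimage]
    simp only [Category.assoc, IsIso.hom_inv_id_assoc, IsIso.inv_hom_id_assoc]
    rw [ht₀]
    exact (A'.homEquiv_naturality_right _ _).symm
  -- the same generator through the map of modules
  let bm := DPF49.bcT a' g' g a hsq.w.symm
  let z₁ := (Scheme.Modules.pullback g).map (genMap a n) ≫ bm.app (Coh.structureModule X)
  obtain ⟨v, hv⟩ := exists_genMap_eq a n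
  let M' := Scheme.Modules.pullbackPushforwardAdjunction a'
  let P := PicLoc.pullbackStructureIso g
  let κ : (Scheme.Modules.pullback a').obj (Coh.structureModule Y') ≅ N₀ :=
    PicLoc.pullbackStructureIso a' ≪≫ (PicLoc.pullbackStructureIso g').symm ≪≫
      (Scheme.Modules.pullback g').mapIso v
  have hz₁ : ∀ {T : X'.Modules} (e : N₀ ⟶ T), z₁ ≫ pf'.map e = P.hom ≫ M'.homEquiv _ _ (κ.hom ≫ e) :=
    fun {T} e => by
      have h := bm.naturality v.hom
      dsimp only [Functor.comp_obj, Functor.comp_map] at h
      simp only [z₁]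
      rw [hv, Functor.map_comp, Category.assoc, Category.assoc, reassoc_of% h,
        reassoc_of% (unitPush_bcT a g a' g' hsq)]
      simp only [κ, P, Iso.trans_hom, Iso.symm_hom, Functor.mapIso_hom, M'.homEquiv_naturality_right,
        Category.assoc]
      rfl
  let e₀ : N₀ ⟶ N₀ := κ.inv ≫ (M'.homEquiv _ _).symm (P.inv ≫ z₀)
  have he₀ : z₁ ≫ pf'.map e₀ = z₀ := by
    rw [hz₁, Iso.hom_inv_id_assoc, Equiv.apply_symm_apply, Iso.hom_inv_id_assoc]
  let f₀ : N₀ ⟶ N₀ := (sg X' n).preimage (inv ι ≫
    (A'.homEquiv _ _).symm ((tau g n).app O ≫ (sg Y' n).map z₁ ≫ (sigma a' n).app N₀))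
  have hf₀ : z₀ ≫ pf'.map f₀ = z₁ := by
    refine (sg Y' n).map_injective ((cancel_mono ((sigma a' n).app N₀)).1 ((cancel_epi ((tau g n).app O)).1 ?_))
    rw [hz₀ hN₀, Functor.map_preimage, IsIso.hom_inv_id_assoc]
    exact Equiv.apply_symm_apply _ _
  haveI : IsIso e₀ := by
    refine ⟨f₀, ?_, ?_⟩
    · refine (cancel_epi κ.hom).1 ((M'.homEquiv _ _).injective ((cancel_epi P.hom).1 ?_))
      rw [← hz₁, ← hz₁, Functor.map_comp, ← Category.assoc, he₀, hf₀, CategoryTheory.Functor.map_id]
      exact (Category.comp_id _).symm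
    · refine (sg X' n).map_injective ((cancel_epi ι).1 ((A'.homEquiv _ _).injective ?_))
      rw [← hz₀ hN₀, ← hz₀ hN₀, Functor.map_comp pf', ← Category.assoc z₀, hf₀, he₀]
      exact congrArg (fun k => (tau g n).app O ≫ (sg Y' n).map k ≫ (sigma a' n).app N₀)
        ((congrArg (z₀ ≫ ·) (pf'.map_id _)).trans (Category.comp_id _)).symm
  obtain ⟨Φ, hΦ⟩ := exists_scal_iso (PicLoc.pullbackStructureIso g') e₀
  let hh : (Scheme.Modules.pullback g).obj ((Scheme.Modules.pushforward a).obj G) ⟶ pf'.obj N :=
    (sg Y' n).preimage (inv ((tau g n).app ((Scheme.Modules.pushforward a).obj G)) ≫ ω G ≫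
      inv ((sigma a' n).app N))
  have key : hh = bm.app G ≫ pf'.map (Φ.hom.app N) := by
    refine hom_ext_pullback g _ _ fun s => ?_
    obtain ⟨x, hx, -⟩ := existsUnique_factor a n hG s
    subst hx
    have h1 : (Scheme.Modules.pullback g).map (genMap a n ≫ (Scheme.Modules.pushforward a).map x) ≫ hh =
        z₀ ≫ pf'.map ((Scheme.Modules.pullback g').map x) := by
      refine (sg Y' n).map_injective ((cancel_mono ((sigma a' n).app N)).1 ((cancel_epi ((tau g n).app O)).1 ?_))
      rw [hz₀ hN]
      have h := tau_nat g n (genMap a n ≫ (Scheme.Modules.pushforward a).map x)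
      rw [Functor.map_comp (sg Y' n), Category.assoc, ← Category.assoc ((tau g n).app O), ← h, Category.assoc]
      simp only [hh, Functor.map_preimage, Category.assoc, IsIso.hom_inv_id_assoc, IsIso.inv_hom_id]
      rw [Category.comp_id, Functor.map_comp, Functor.map_comp, Category.assoc, hnat, ← Category.assoc,
        show (DCoh.Lpull g).map ((sg Y n).map (genMap a n)) ≫ ω (Coh.structureModule X) = t₀ from rfl, ht₀]
      exact (A'.homEquiv_naturality_right _ _).symm
    rw [h1, Functor.map_comp, Category.assoc]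
    have h2 := bm.naturality x
    have h3 := Φ.hom.naturality ((Scheme.Modules.pullback g').map x)
    dsimp only [Functor.comp_obj, Functor.comp_map, Functor.id_obj, Functor.id_map] at h2 h3
    rw [reassoc_of% h2, ← Functor.map_comp, h3, hΦ, Functor.map_comp, ← Category.assoc ((Scheme.Modules.pullback g).map (genMap a n)),
      ← Category.assoc _ (pf'.map e₀), ← he₀]
  haveI : IsIso (bm.app G) := isIso_bcT a g a' g' hsq G
  haveI : IsIso hh := by rw [key]; infer_instance
  have hω : ω G = (tau g n).app ((Scheme.Modules.pushforward a).obj G) ≫ (sg Y' n).map hh ≫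
      (sigma a' n).app N := by
    rw [show (sg Y' n).map hh = _ from (sg Y' n).map_preimage _]
    simp only [Category.assoc, IsIso.hom_inv_id_assoc, IsIso.inv_hom_id]
    exact (Category.comp_id _).symm
  haveI : IsIso (ω G) := by rw [hω]; infer_instance
  exact IsIso.of_isIso_comp_left ((DCoh.Lpull g).map ((sigma a n).app G)) _

/-- Base change for the structure sheaf of an affine scheme. -/
theorem isIso_bc_unit [IsAffine X] [IsAffine Y] [IsAffine Y'] (hsq : IsPullback g' a' a g)
    (θ : DCoh.Lpull g ⋙ DCoh.Lpull a' ≅ DCoh.Lpull a ⋙ DCoh.Lpull g') (n : ℤ)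
    (hτ : IsIso ((tau g n).app ((Scheme.Modules.pushforward a).obj (Coh.structureModule X)))) :
    IsIso ((bc (DCX42.LpullRpushAdj a) (DCX42.LpullRpushAdj a') θ.hom).app
      ((sg X n).obj (Coh.structureModule X))) := by
  haveI := isIso_bc_single a g a' g' hsq θ n _ (isQCoh_O X) hτ
  haveI := isIso_tau_unit g' n
  exact IsIso.of_isIso_comp_right _ ((DCoh.Rpush a').map ((tau g' n).app (Coh.structureModule X)))

end Groth.Agent.BC49
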