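import Groth.Agent.BC49.OpenImm

/-!
Pasting of base change squares of derived functors, and locality on the two bases.
-/

set_option autoImplicit false
set_option backward.isDefEq.respectTransparency false
set_option backward.isDefEq.respectTransparency.types false
set_option linter.style.haveILetI false

noncomputable section

universe u

open CategoryTheory CategoryTheory.Limits AlgebraicGeometry
attribute [local instance] HasDerivedCategory.standard Groth.Agent.DCX42.hasRpush Groth.Agent.DCK91.hasLpull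

namespace Groth.Agent.BC49

variable {X Y X' Y' : Scheme.{u}}

/-- Equal morphisms have isomorphic derived inverse images. -/
theorem nonempty_Lpull_congr {a b : X ⟶ Y} (h : a = b) : Nonempty (DCoh.Lpull a ≅ DCoh.Lpull b) := by
  subst h
  exact ⟨Iso.refl _⟩

/-- `Lg^* Lf^* ≅ L k^*` for `k = f ≫ g`. -/
theorem nonempty_Lpull_comp' {Z : Scheme.{u}} (f : X ⟶ Y) (g : Y ⟶ Z) {k : X ⟶ Z} (h : f ≫ g = k) :
    Nonempty (DCoh.Lpull g ⋙ DCoh.Lpull f ≅ DCoh.Lpull k) := by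
  subst h
  exact DCK91.Lpull_comp f g

/-- The comparison isomorphism of a commutative square. -/
theorem nonempty_theta {f : X ⟶ Y} {g : Y' ⟶ Y} {f' : X' ⟶ Y'} {g' : X' ⟶ X} (h : g' ≫ f = f' ≫ g) :
    Nonempty (DCoh.Lpull g ⋙ DCoh.Lpull f' ≅ DCoh.Lpull f ⋙ DCoh.Lpull g') := by
  obtain ⟨e₁⟩ := nonempty_Lpull_comp' f' g h.symm
  obtain ⟨e₂⟩ := nonempty_Lpull_comp' g' f rfl
  exact ⟨e₁ ≪≫ e₂.symm⟩

/-- Base change holds on objects with quasi-coherent cohomology, whatever the comparison isomorphism. -/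
def BCok (f : X ⟶ Y) (f' : X' ⟶ Y') (g : Y' ⟶ Y) (g' : X' ⟶ X) : Prop :=
  ∀ (θ : DCoh.Lpull g ⋙ DCoh.Lpull f' ≅ DCoh.Lpull f ⋙ DCoh.Lpull g') (E : DCoh.D X), DCoh.IsQCohD E →
    IsIso ((bc (adjLR f) (adjLR f') θ.hom).app E)

variable {f : X ⟶ Y} {g : Y' ⟶ Y} {f' : X' ⟶ Y'} {g' : X' ⟶ X}

section Horizontal

variable {X'' Y'' : Scheme.{u}} {f'' : X'' ⟶ Y''} {w : Y'' ⟶ Y'} {w' : X'' ⟶ X'}

/-- Horizontal pasting. -/
theorem exists_hComp (θ : DCoh.Lpull g ⋙ DCoh.Lpull f' ≅ DCoh.Lpull f ⋙ DCoh.Lpull g')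
    (θw : DCoh.Lpull w ⋙ DCoh.Lpull f'' ≅ DCoh.Lpull f' ⋙ DCoh.Lpull w')
    {k : Y'' ⟶ Y} {k' : X'' ⟶ X} (hk : w ≫ g = k) (hk' : w' ≫ g' = k') :
    ∃ θk : DCoh.Lpull k ⋙ DCoh.Lpull f'' ≅ DCoh.Lpull f ⋙ DCoh.Lpull k', ∀ E : DCoh.D X,
      IsIso ((bc (adjLR f) (adjLR f'') θk.hom).app E) ↔
        IsIso ((DCoh.Lpull w).map ((bc (adjLR f) (adjLR f') θ.hom).app E) ≫
          (bc (adjLR f') (adjLR f'') θw.hom).app ((DCoh.Lpull g').obj E)) := by
  obtain ⟨c⟩ := nonempty_Lpull_comp' w g hk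
  obtain ⟨c'⟩ := nonempty_Lpull_comp' w' g' hk'
  let θh : (DCoh.Lpull g ⋙ DCoh.Lpull w) ⋙ DCoh.Lpull f'' ≅ DCoh.Lpull f ⋙ (DCoh.Lpull g' ⋙ DCoh.Lpull w') :=
    Functor.associator _ _ _ ≪≫ Functor.isoWhiskerLeft _ θw ≪≫ (Functor.associator _ _ _).symm ≪≫
      Functor.isoWhiskerRight θ _ ≪≫ Functor.associator _ _ _
  refine ⟨Functor.isoWhiskerRight c.symm _ ≪≫ θh ≪≫ Functor.isoWhiskerLeft _ c', fun E => ?_⟩
  rw [bc_change_g (adjLR f) (adjLR f'') (hComp θ.hom θw.hom) c.inv c'.hom _ (fun M => by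
    simp [θh, hComp_app]) E, bc_hComp (adjLR f) (adjLR f') θ.hom (adjLR f'') θw.hom E]
  simp only [isIso_comp_left_iff, isIso_comp_right_iff]

/-- Undoing a horizontal pasting along an open immersion. -/
theorem exists_unComp [IsOpenImmersion g] {k : Y'' ⟶ Y} {k' : X'' ⟶ X} (hk : w ≫ g = k) (hk' : w' ≫ g' = k')
    (θ : DCoh.Lpull g ⋙ DCoh.Lpull f' ≅ DCoh.Lpull f ⋙ DCoh.Lpull g')
    (θk : DCoh.Lpull k ⋙ DCoh.Lpull f'' ≅ DCoh.Lpull f ⋙ DCoh.Lpull k') :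
    ∃ θw : DCoh.Lpull w ⋙ DCoh.Lpull f'' ≅ DCoh.Lpull f' ⋙ DCoh.Lpull w', ∀ E : DCoh.D X,
      IsIso ((bc (adjLR f) (adjLR f'') θk.hom).app E) ↔
        IsIso ((DCoh.Lpull w).map ((bc (adjLR f) (adjLR f') θ.hom).app E) ≫
          (bc (adjLR f') (adjLR f'') θw.hom).app ((DCoh.Lpull g').obj E)) := by
  obtain ⟨c⟩ := nonempty_Lpull_comp' w g hk
  obtain ⟨c'⟩ := nonempty_Lpull_comp' w' g' hk'
  haveI := isIso_counit g
  let α : DCoh.Lpull g ⋙ (DCoh.Lpull w ⋙ DCoh.Lpull f'') ≅ DCoh.Lpull g ⋙ (DCoh.Lpull f' ⋙ DCoh.Lpull w') :=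
    (Functor.associator _ _ _).symm ≪≫ Functor.isoWhiskerRight c _ ≪≫ θk ≪≫
      Functor.isoWhiskerLeft _ c'.symm ≪≫ (Functor.associator _ _ _).symm ≪≫
      Functor.isoWhiskerRight θ.symm _ ≪≫ Functor.associator _ _ _
  refine ⟨descend (adjLR g) α, fun E => ?_⟩
  rw [bc_change_g (adjLR f) (adjLR f'') (hComp θ.hom (descend (adjLR g) α).hom) c.inv c'.hom θk.hom (fun M => by
    rw [hComp_app, descend_app]
    dsimp [α]
    rw [Category.id_comp, Category.id_comp, Category.comp_id]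
    simp only [Category.assoc, ← Functor.map_comp_assoc, Iso.inv_hom_id_app]
    erw [CategoryTheory.Functor.map_id, Category.id_comp, CategoryTheory.Functor.map_id, Category.id_comp,
      Iso.inv_hom_id_app, Category.comp_id]) E, bc_hComp (adjLR f) (adjLR f') θ.hom (adjLR f'') (descend (adjLR g) α).hom E]
  simp only [isIso_comp_left_iff, isIso_comp_right_iff]

end Horizontal

section Vertical

variable {A A' : Scheme.{u}} {j : A ⟶ X} {j' : A' ⟶ X'} {g'' : A' ⟶ A} {a : A ⟶ Y} {a' : A' ⟶ Y'}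

/-- Vertical pasting, tested on a map out of `Lg'^*` of a reflexive object. -/
theorem exists_vComp (θ : DCoh.Lpull g ⋙ DCoh.Lpull f' ≅ DCoh.Lpull f ⋙ DCoh.Lpull g')
    (θj : DCoh.Lpull g' ⋙ DCoh.Lpull j' ≅ DCoh.Lpull j ⋙ DCoh.Lpull g'') (ha : j ≫ f = a) (ha' : j' ≫ f' = a') :
    ∃ θa : DCoh.Lpull g ⋙ DCoh.Lpull a' ≅ DCoh.Lpull a ⋙ DCoh.Lpull g'',
      ∀ (K : DCoh.D X) (T : DCoh.D X') (c : (DCoh.Lpull g').obj K ⟶ T),
        IsIso ((adjLR j).unit.app K) → IsIso ((adjLR j').unit.app T) →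
        (IsIso ((bc (adjLR f) (adjLR f') θ.hom).app K ≫ (DCoh.Rpush f').map c) ↔
          IsIso ((bc (adjLR a) (adjLR a') θa.hom).app ((DCoh.Lpull j).obj K) ≫
            (DCoh.Rpush a').map (θj.inv.app K ≫ (DCoh.Lpull j').map c))) := by
  obtain ⟨l⟩ := nonempty_Lpull_comp' j f ha
  obtain ⟨l'⟩ := nonempty_Lpull_comp' j' f' ha'
  let θv : DCoh.Lpull g ⋙ (DCoh.Lpull f' ⋙ DCoh.Lpull j') ≅ (DCoh.Lpull f ⋙ DCoh.Lpull j) ⋙ DCoh.Lpull g'' :=
    (Functor.associator _ _ _).symm ≪≫ Functor.isoWhiskerRight θ _ ≪≫ Functor.associator _ _ _ ≪≫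
      Functor.isoWhiskerLeft _ θj ≪≫ (Functor.associator _ _ _).symm
  let θa := Functor.isoWhiskerLeft (DCoh.Lpull g) l'.symm ≪≫ θv ≪≫ Functor.isoWhiskerRight l (DCoh.Lpull g'')
  refine ⟨θa, fun K T c _ _ => ?_⟩
  let A₁ := (adjLR f).comp (adjLR j)
  let A₁' := (adjLR f').comp (adjLR j')
  let r := (A₁.ofNatIsoLeft l.symm.symm).rightAdjointUniq (adjLR a)
  let r' := (A₁'.ofNatIsoLeft l'.symm.symm).rightAdjointUniq (adjLR a')
  have h1 := bc_comp_vComp_unit (adjLR f) (adjLR f') θ.hom (adjLR j) (adjLR j') θj.hom θj.inv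
    (fun K => θj.hom_inv_id_app K) c
  have h2 := bc_change_f A₁ A₁' (vComp θ.hom θj.hom) (adjLR a) (adjLR a') l.symm l'.symm θa.hom
    (fun M => by simp [θa, θv, vComp_app]) ((DCoh.Lpull j).obj K)
  have h3 := r'.hom.naturality (θj.inv.app K ≫ (DCoh.Lpull j').map c)
  haveI : IsIso ((DCoh.Lpull g).map ((DCoh.Rpush f).map ((adjLR j).unit.app K))) := inferInstance
  haveI : IsIso ((DCoh.Rpush f').map ((adjLR j').unit.app T)) := inferInstance
  dsimp only [Functor.comp_obj, Functor.comp_map] at h1 h2 h3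
  constructor
  · intro h
    haveI : IsIso ((bc (adjLR f) (adjLR f') θ.hom).app K ≫ (DCoh.Rpush f').map (c ≫ (adjLR j').unit.app T)) := by
      rw [Functor.map_comp, ← Category.assoc]
      infer_instance
    rw [← h1, isIso_comp_left_iff, ← isIso_comp_right_iff _ (r'.hom.app _), Category.assoc, h3,
      ← Category.assoc, ← h2, Category.assoc, isIso_comp_left_iff] at this
    exact this
  · intro h
    have h4 : IsIso ((bc (adjLR f) (adjLR f') θ.hom).app K ≫ (DCoh.Rpush f').map (c ≫ (adjLR j').unit.app T)) := by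
      rw [← h1, isIso_comp_left_iff, ← isIso_comp_right_iff _ (r'.hom.app _), Category.assoc, h3,
        ← Category.assoc, ← h2, Category.assoc, isIso_comp_left_iff]
      exact h
    rw [Functor.map_comp, ← Category.assoc, isIso_comp_right_iff] at h4
    exact h4

end Vertical

/-- **Base change is local on both bases.** -/
theorem bcok_of_local (hsq : IsPullback g' f' f g)
    (h : ∀ y' : Y', ∃ (V : Y.Opens) (W : Y'.Opens) (hW : W ≤ g ⁻¹ᵁ V) (hU : f' ⁻¹ᵁ W ≤ g' ⁻¹ᵁ (f ⁻¹ᵁ V)),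
      y' ∈ W ∧ BCok (f ∣_ V) (f' ∣_ W) (g.resLE V W hW) (g'.resLE (f ⁻¹ᵁ V) (f' ⁻¹ᵁ W) hU)) :
    BCok f f' g g' := by
  intro θ E hE
  rw [DerivedCategory.isIso_iff]
  intro i
  refine Omega57.isIso_of_restrict _ fun y' => ?_
  obtain ⟨V, W, hW, hU, hy, hb⟩ := h y'
  refine ⟨W, W.ι, inferInstance, ⟨⟨y', hy⟩, rfl⟩, ?_⟩
  let U := f ⁻¹ᵁ V
  let U' := f' ⁻¹ᵁ W
  have hsqW : IsPullback U'.ι (f' ∣_ W) f' W.ι := (isPullback_morphismRestrict f' W).flip
  have hsqV : IsPullback U.ι (f ∣_ V) f V.ι := (isPullback_morphismRestrict f V).flip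
  obtain ⟨θw⟩ := nonempty_theta hsqW.w
  obtain ⟨θv⟩ := nonempty_theta hsqV.w
  obtain ⟨θk, hk⟩ := exists_hComp θ θw (Scheme.Hom.resLE_comp_ι g hW).symm (Scheme.Hom.resLE_comp_ι g' hU).symm
  obtain ⟨θ₁, h₁⟩ := exists_unComp (w := g.resLE V W hW) (w' := g'.resLE U U' hU) rfl rfl θv θk
  haveI := isIso_bc_openImmersion hsqW θw ((DCoh.Lpull g').obj E)
  haveI := isIso_bc_openImmersion hsqV θv E
  obtain ⟨e⟩ := DCX42.nonempty_Lpull_iso_resD U.ι
  haveI := hb θ₁ ((DCoh.Lpull U.ι).obj E) (DCX42.isQCohD_of_iso (e.app E).symm (DCX42.isQCohD_resD hE _))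
  have h2 := (hk E).1 ((h₁ E).2 inferInstance)
  rw [isIso_comp_right_iff, isIso_Lpull_iff] at h2
  exact (NatIso.isIso_map_iff (Mod48.homologyMapDerivedIso (Scheme.Modules.restrictFunctor W.ι) i)
    ((bc (adjLR f) (adjLR f') θ.hom).app E)).1
    (inferInstanceAs (IsIso ((DerivedCategory.homologyFunctor _ i).map ((DCX42.resD W.ι).map
      ((bc (adjLR f) (adjLR f') θ.hom).app E)))))

end Groth.Agent.BC49
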