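import Groth.Agent.BC49.AffineCase
import Groth.Agent.BC49.Paste
import Groth.Agent.DPF49.FiveLemma
import Groth.Agent.FlatMor68.FlatSections
import Groth.Agent.RelPCSch41.FlatPerf
import Groth.Agent.QCohPush72.FlatAmp
import Groth.Agent.QCohPush72.Main
import Groth.Agent.Coh69.QcInd

/-!
Base change over affine bases, by induction on the source.
-/

set_option autoImplicit false
set_option backward.isDefEq.respectTransparency false
set_option backward.isDefEq.respectTransparency.types false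
set_option linter.style.haveILetI false
set_option maxHeartbeats 1000000

noncomputable section

universe u

open CategoryTheory CategoryTheory.Limits CategoryTheory.Pretriangulated AlgebraicGeometry
attribute [local instance] HasDerivedCategory.standard Groth.Agent.DCX42.hasRpush Groth.Agent.DCK91.hasLpull

namespace Groth.Agent.BC49

variable {X Y X' Y' : Scheme.{u}}

/-- Tor independence, in the form used: direct images of the structure sheaves of affine opens are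
acyclic for the inverse image along `g`. -/
def TI (f : X ⟶ Y) (g : Y' ⟶ Y) : Prop :=
  ∀ (n : ℤ) (A : Scheme.{u}) [IsAffine A] (i : A ⟶ X) [IsOpenImmersion i],
    IsIso ((tau g n).app ((Scheme.Modules.pushforward (i ≫ f)).obj (Coh.structureModule A)))

lemma TI.comp {f : X ⟶ Y} {g : Y' ⟶ Y} (h : TI f g) {A : Scheme.{u}} (j : A ⟶ X) [IsOpenImmersion j] :
    TI (j ≫ f) g := fun n B _ i _ => by
  have h1 := h n B (i ≫ j)
  rwa [Category.assoc] at h1

/-- Anything flat over an affine base is Tor independent of every base change. -/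
theorem TI_of_flat [IsAffine Y] (f : X ⟶ Y) [Flat f] (g : Y' ⟶ Y) : TI f g := fun n A _ i _ => by
  refine isIso_tau_of_flat g n _ (QCohPush72.isFlat_of_isFlatOver_id _ ?_)
  refine (FlatMor68.FlatSections.t9349 (i ≫ f) (𝟙 Y) (Coh.structureModule A) (isQCoh_O A)).1 ?_
  rw [Category.comp_id]
  exact RelPCSch41.flatOver_unit_iff.2 inferInstance

/-- Everything is Tor independent of a flat base change. -/
theorem TI_of_flat_base (f : X ⟶ Y) (g : Y' ⟶ Y) [Flat g] : TI f g := fun n A _ i _ =>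
  isIso_tau_of_flat_hom g n _

/-- `τ` is invertible on every shift. -/
def AllShifts {B : Type*} [Category B] {Φ₁ Φ₂ : DCoh.D X ⥤ B} (τ : Φ₁ ⟶ Φ₂) (E : DCoh.D X) : Prop :=
  ∀ m : ℤ, IsIso (τ.app (E⟦m⟧))

section ClassGen

variable {B : Type*} [Category B] {Φ₁ Φ₂ : DCoh.D X ⥤ B} (τ : Φ₁ ⟶ Φ₂)

lemma AllShifts.of_iso {E E' : DCoh.D X} (h : AllShifts τ E) (e : E ≅ E') : AllShifts τ E' := fun m =>
  (NatTrans.isIso_app_iff_of_iso τ ((shiftFunctor (DCoh.D X) m).mapIso e)).1 (h m)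

lemma AllShifts.shift {E : DCoh.D X} (h : AllShifts τ E) (k : ℤ) : AllShifts τ (E⟦k⟧) := fun m =>
  (NatTrans.isIso_app_iff_of_iso τ ((shiftFunctorAdd' (DCoh.D X) k m _ rfl).app E)).1 (h (k + m))

lemma AllShifts.app {E : DCoh.D X} (h : AllShifts τ E) : IsIso (τ.app E) :=
  (NatTrans.isIso_app_iff_of_iso τ ((shiftFunctorZero (DCoh.D X) ℤ).app E)).1 (h 0)

end ClassGen

section Class

variable {B : Type*} [Category B] [Abelian B] [HasDerivedCategory.{u + 1} B]
  {Φ₁ Φ₂ : DCoh.D X ⥤ DerivedCategory B} (h₁ : QExact41.TriLike Φ₁) (h₂ : QExact41.TriLike Φ₂)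
  (τ : Φ₁ ⟶ Φ₂)

include h₁ h₂ in
lemma AllShifts.obj₃ {T : Triangle (DCoh.D X)} (hT : T ∈ distTriang _) (a : AllShifts τ T.obj₁)
    (b : AllShifts τ T.obj₂) : AllShifts τ T.obj₃ := fun m =>
  DPF49.isIso_five h₁ h₂ τ _ (Triangle.shift_distinguished T hT m) (a m) (b m) (AllShifts.shift τ a m 1) (AllShifts.shift τ b m 1)

include h₁ h₂ in
lemma AllShifts.obj₁ {T : Triangle (DCoh.D X)} (hT : T ∈ distTriang _) (b : AllShifts τ T.obj₂)
    (c : AllShifts τ T.obj₃) : AllShifts τ T.obj₁ :=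
  AllShifts.obj₃ h₁ h₂ τ (inv_rot_of_distTriang _ (inv_rot_of_distTriang _ hT)) (AllShifts.shift τ b (-1)) (AllShifts.shift τ c (-1))

include h₁ h₂ in
lemma AllShifts.biprod {E E' : DCoh.D X} (a : AllShifts τ E) (b : AllShifts τ E') : AllShifts τ (E ⊞ E') :=
  AllShifts.obj₃ h₁ h₂ τ (inv_rot_of_distTriang _ (binaryBiproductTriangle_distinguished E E'))
    (AllShifts.shift τ b (-1)) a

end Class

section Affine

variable {f : X ⟶ Y} {f' : X' ⟶ Y'} {g : Y' ⟶ Y} {g' : X' ⟶ X}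

/-- A natural transformation between functors on `D(O_X)`, `X` affine, invertible on `O_X[n]`. -/
theorem isIso_of_unit [IsAffine X] {B : Type (u + 1)} [Category.{u} B] [Abelian B] [HasDerivedCategory.{u + 1} B]
    {Φ₁ Φ₂ : DCoh.D X ⥤ DerivedCategory B} (h₁ : QExact41.TriLike Φ₁) (h₂ : QExact41.TriLike Φ₂) (τ : Φ₁ ⟶ Φ₂)
    (hc₁ : ∀ {I : Type u} (E : I → DCoh.D X), (∀ i, DCoh.IsQCohD (E i)) → PreservesColimit (Discrete.functor E) Φ₁)
    (hc₂ : ∀ {I : Type u} (E : I → DCoh.D X), (∀ i, DCoh.IsQCohD (E i)) → PreservesColimit (Discrete.functor E) Φ₂)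
    (hgen : ∀ n, IsIso (τ.app ((sg X n).obj (Coh.structureModule X)))) {E : DCoh.D X} (hE : DCoh.IsQCohD E) :
    IsIso (τ.app E) := by
  let R := Γ(X, ⊤)
  haveI : PreservesFiniteLimits (tilde.functor R) := (Groth.Agent.S9498.tilde_exact R).1
  let i := X.isoSpec.hom
  let T := (tilde.functor R).mapDerivedCategory
  let Ψ : Dual.D R ⥤ DCoh.D X := T ⋙ DCX42.resD i
  have hΨ : QExact41.TriLike Ψ := (DPF49.triLike_mapDerived _).comp (DPF49.triLike_mapDerived _)
  have hpΨ : ∀ {J : Type u} (M : J → Dual.D R), PreservesColimit (Discrete.functor M) Ψ := fun M =>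
    DPF49.preservesColimit_comp M T _ (DPF49.preservesColimit_tildeD _ M) (DPF49.preservesColimit_resD i _)
  have hqΨ : ∀ M : Dual.D R, DCoh.IsQCohD (Ψ.obj M) := fun M =>
    DCX42.isQCohD_resD (DCX42.isQCohD_tildeD R M) i
  obtain ⟨M, ⟨eM⟩⟩ := ((DCX42.tildeD_fullyFaithful_essImage R).2.2 _).1 (DCX42.isQCohD_resD hE X.isoSpec.inv)
  let eE : Ψ.obj M ≅ E := (DCX42.resD i).mapIso eM ≪≫ (DCX42.resDComp i X.isoSpec.inv).app E ≪≫
    (DCX42.resDCongr X.isoSpec.hom_inv_id).app E ≪≫ (QCohPush72.resDId X).app E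
  refine (NatTrans.isIso_app_iff_of_iso τ eE).1 ?_
  refine DPF49.isIso_of_isIso_gen (hΨ.comp h₁) (hΨ.comp h₂) (Functor.whiskerLeft Ψ τ)
    (fun N => DPF49.preservesColimit_comp N Ψ _ (hpΨ N) (hc₁ _ fun _ => hqΨ _))
    (fun N => DPF49.preservesColimit_comp N Ψ _ (hpΨ N) (hc₂ _ fun _ => hqΨ _)) (fun n => ?_) M
  let eK : Ψ.obj (DPF49.Gen.K n) ≅ (sg X n).obj (Coh.structureModule X) :=
    (DCX42.resD i).mapIso (((tilde.functor R).mapDerivedCategorySingleFunctor n).app (ModuleCat.of R R) ≪≫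
      (DerivedCategory.singleFunctor (Spec R).Modules n).mapIso tildeSelf) ≪≫
      ((Scheme.Modules.restrictFunctor i).mapDerivedCategorySingleFunctor n).app _ ≪≫
      (DerivedCategory.singleFunctor X.Modules n).mapIso (Scheme.Modules.restrictUnitIso i) ≪≫
      ((sgIso X n).app _).symm
  exact (NatTrans.isIso_app_iff_of_iso τ eK).2 (hgen n)

/-- **Base change between affine schemes.** -/
theorem bcok_affine [IsAffine X] [IsAffine Y] [IsAffine Y'] (hsq : IsPullback g' f' f g) (hTI : TI f g) :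
    BCok f f' g g' := by
  intro θ E hE
  haveI : IsAffine X' := IsAffine.of_isIso hsq.isoPullback.hom
  refine isIso_of_unit ((QExact41.triLike_Rpush f).comp (QExact41.triLike_Lpull g))
    ((QExact41.triLike_Lpull g').comp (QExact41.triLike_Rpush f')) (bc (adjLR f) (adjLR f') θ.hom)
    (fun E hE => DPF49.preservesColimit_comp E (DCoh.Rpush f) _ (DPF49.preservesColimit_Rpush f E hE)
      (DPF49.preservesColimit_Lpull g _))
    (fun E hE => DPF49.preservesColimit_comp E (DCoh.Lpull g') _ (DPF49.preservesColimit_Lpull g' E)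
      (DPF49.preservesColimit_Rpush f' _ fun i => DCX42.isQCohD_Lpull g' (hE i)))
    (fun n => ?_) hE
  have h := hTI n X (𝟙 X)
  rw [Category.id_comp] at h
  exact isIso_bc_unit f g f' g' hsq θ n h

end Affine

section Induction

variable {f : X ⟶ Y} {f' : X' ⟶ Y'} {g : Y' ⟶ Y} {g' : X' ⟶ X}

/-- The transformation is invertible on all shifts of direct images from opens with range `O`. -/
def GoodPush {B : Type*} [Category B] {Φ₁ Φ₂ : DCoh.D X ⥤ B} (τ : Φ₁ ⟶ Φ₂) (O : X.Opens) : Prop :=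
  ∀ (Z : Scheme.{u}) (j : Z ⟶ X) [IsOpenImmersion j], j.opensRange = O → ∀ E : DCoh.D X, DCoh.IsQCohD E →
    AllShifts τ ((DCoh.Rpush j).obj ((DCX42.resD j).obj E))

/-- **Induction over quasi-compact opens.** -/
theorem isIso_of_pieces [CompactSpace X] [QuasiSeparatedSpace X] {B : Type*} [Category B] [Abelian B]
    [HasDerivedCategory.{u + 1} B] {Φ₁ Φ₂ : DCoh.D X ⥤ DerivedCategory B} (h₁ : QExact41.TriLike Φ₁)
    (h₂ : QExact41.TriLike Φ₂) (τ : Φ₁ ⟶ Φ₂)
    (hA : ∀ (A : Scheme.{u}) [IsAffine A] (j : A ⟶ X) [IsOpenImmersion j] (M : DCoh.D A), DCoh.IsQCohD M →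
      IsIso (τ.app ((DCoh.Rpush j).obj M)))
    {E : DCoh.D X} (hE : DCoh.IsQCohD E) : IsIso (τ.app E) := by
  have haff : ∀ O : X.Opens, IsAffineOpen O → GoodPush τ O := fun O hO Z j _ hj E hE m => by
    haveI : IsAffine O.toScheme := hO
    haveI : IsAffine Z := IsAffine.of_isIso (j.isoOpensRange ≪≫ X.isoOfEq hj).hom
    obtain ⟨e⟩ := nonempty_Rpush_shift j ((DCX42.resD j).obj E) m
    exact (NatTrans.isIso_app_iff_of_iso τ e).1 (hA Z j _ (DCX42.isQCohD_shift (DCX42.isQCohD_resD hE j) m))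
  have hsup : ∀ U V : X.Opens, GoodPush τ U → GoodPush τ V → GoodPush τ (U ⊓ V) → GoodPush τ (U ⊔ V) := by
    intro U V hU hV hUV Z j _ hj E hE
    have htop : j ⁻¹ᵁ U ⊔ j ⁻¹ᵁ V = ⊤ := by
      rw [← Scheme.Hom.preimage_sup, ← hj, Scheme.Hom.preimage_opensRange]
    have piece : ∀ W : X.Opens, W ≤ U ⊔ V → GoodPush τ W → AllShifts τ ((DCoh.Rpush ((j ⁻¹ᵁ W).ι ≫ j)).obj
        ((DCoh.restrictD (j ⁻¹ᵁ W).ι).obj ((DCX42.resD j).obj E))) := fun W hW h => by
      have hr : ((j ⁻¹ᵁ W).ι ≫ j).opensRange = W := by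
        rw [Scheme.Hom.opensRange_comp, Scheme.Opens.opensRange_ι, j.image_preimage_eq_opensRange_inf, hj]
        exact inf_eq_right.mpr hW
      exact AllShifts.of_iso τ (h _ ((j ⁻¹ᵁ W).ι ≫ j) hr E hE)
        ((DCoh.Rpush _).mapIso ((DCX42.resDComp (j ⁻¹ᵁ W).ι j).app E).symm)
    obtain ⟨a, b, c, hT⟩ := DCX42.exists_mv_triangle (j ⁻¹ᵁ U) (j ⁻¹ᵁ V) htop ((DCX42.resD j).obj E)
    obtain ⟨eU⟩ := DCX42.Rpush_comp (j ⁻¹ᵁ U).ι j
    obtain ⟨eV⟩ := DCX42.Rpush_comp (j ⁻¹ᵁ V).ι j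
    obtain ⟨eW⟩ := DCX42.Rpush_comp (j ⁻¹ᵁ U ⊓ j ⁻¹ᵁ V).ι j
    obtain ⟨a', b', c', hT'⟩ := DCX42.exists_triangle_push (DCoh.Rpush j) (PropPush72.αu j)
      (PropPush72.hα j) hT (Iso.refl _) (eU.app _) (eV.app _) (eW.app _)
    exact AllShifts.obj₁ h₁ h₂ τ hT'
      (AllShifts.biprod h₁ h₂ τ (piece U le_sup_left hU) (piece V le_sup_right hV))
      (piece (U ⊓ V) (inf_le_left.trans le_sup_left) hUV)
  have htop : GoodPush τ ⊤ := Coh69.qc_induction (GoodPush τ) haff (fun U V _ _ => hsup U V) ⊤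
    (by simpa using isCompact_univ)
  have h1 := AllShifts.app τ (htop X (𝟙 X) (Scheme.Hom.opensRange_of_isIso _) E hE)
  haveI := isIso_counit (𝟙 X)
  let d : E ⟶ (DCoh.Rpush (𝟙 X)).obj ((DCoh.Lpull (𝟙 X)).obj E) := (adjLR (𝟙 X)).unit.app E
  haveI : IsIso d := isIso_of_resD_isIso (𝟙 X) d ((isIso_Lpull_iff _ _).1 (isIso_Lpull_unit _ E))
  obtain ⟨e⟩ := DCX42.nonempty_Lpull_iso_resD (𝟙 X)
  exact (NatTrans.isIso_app_iff_of_iso τ (asIso d ≪≫ (DCoh.Rpush (𝟙 X)).mapIso (e.app E))).2 h1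

/-- The inductive step: base change for open immersions of affines gives base change. -/
theorem bcok_step [CompactSpace X] [QuasiSeparatedSpace X] [IsAffine Y] [IsAffine Y']
    (hsq : IsPullback g' f' f g) (hTI : TI f g)
    (hj : ∀ (A : Scheme.{u}) [IsAffine A] (j : A ⟶ X) [IsOpenImmersion j],
      BCok j (pullback.fst g' j) g' (pullback.snd g' j)) : BCok f f' g g' := by
  intro θ E hE
  refine isIso_of_pieces ((QExact41.triLike_Rpush f).comp (QExact41.triLike_Lpull g))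
    ((QExact41.triLike_Lpull g').comp (QExact41.triLike_Rpush f')) (bc (adjLR f) (adjLR f') θ.hom)
    (fun A _ j _ M hM => ?_) hE
  let j' := pullback.fst g' j
  let g'' := pullback.snd g' j
  have hsqj : IsPullback g'' j' j g' := (IsPullback.of_hasPullback g' j).flip
  obtain ⟨θj⟩ := nonempty_theta hsqj.w
  obtain ⟨θa, ha⟩ := exists_vComp θ θj rfl rfl
  let K := (DCoh.Rpush j).obj M
  haveI := hj A j θj M hM
  have hK : IsIso ((adjLR j).unit.app K) := isIso_unit_of_iso j (Iso.refl _)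
  have hT : IsIso ((adjLR j').unit.app ((DCoh.Lpull g').obj K)) :=
    isIso_unit_of_iso j' (asIso ((bc (adjLR j) (adjLR j') θj.hom).app M))
  haveI : IsIso ((adjLR j).counit.app M) := by haveI := isIso_counit j; infer_instance
  haveI := bcok_affine (hsqj.paste_vert hsq) (hTI.comp j) θa ((DCoh.Lpull j).obj K)
    (DCX42.isQCohD_of_iso (asIso ((adjLR j).counit.app M)).symm hM)
  have h1 := (ha K _ (𝟙 _) hK hT).2 inferInstance
  exact (isIso_comp_right_iff _ _).1 h1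

/-- Restriction of a cartesian square to opens of the two bases. -/
theorem isPullback_restrict {f : X ⟶ Y} {g : Y' ⟶ Y} {f' : X' ⟶ Y'} {g' : X' ⟶ X} (hsq : IsPullback g' f' f g)
    {V : Y.Opens} {W : Y'.Opens} (hW : W ≤ g ⁻¹ᵁ V) (hU : f' ⁻¹ᵁ W ≤ g' ⁻¹ᵁ (f ⁻¹ᵁ V)) :
    IsPullback (g'.resLE (f ⁻¹ᵁ V) (f' ⁻¹ᵁ W) hU) (f' ∣_ W) (f ∣_ V) (g.resLE V W hW) := by
  have h1 : IsPullback (f' ∣_ W) ((f' ⁻¹ᵁ W).ι ≫ g') (W.ι ≫ g) f :=
    (isPullback_morphismRestrict f' W).paste_vert hsq.flip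
  rw [← Scheme.Hom.resLE_comp_ι g hW, ← Scheme.Hom.resLE_comp_ι g' hU] at h1
  refine (IsPullback.of_bot h1 ?_ (isPullback_morphismRestrict f V)).flip
  rw [← cancel_mono V.ι, Category.assoc, Category.assoc, Scheme.Hom.resLE_comp_ι, morphismRestrict_ι,
    morphismRestrict_ι_assoc, Scheme.Hom.resLE_comp_ι_assoc, hsq.w]

/-- Base change for a quasi-compact open immersion, from affine bases. -/
theorem bcok_open (g' : X' ⟶ X) {A : Scheme.{u}} (j : A ⟶ X) [IsOpenImmersion j] [QuasiCompact j]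
    (h : ∀ (B : X.Opens) (_ : IsAffineOpen B) (W : X'.Opens) (_ : IsAffineOpen W)
      (A'' : Scheme.{u}) (f₁ : A'' ⟶ (W : Scheme.{u})) (g₁ : A'' ⟶ (j ⁻¹ᵁ B : Scheme.{u}))
      (hW : W ≤ g' ⁻¹ᵁ B), IsPullback g₁ f₁ (j ∣_ B) (g'.resLE B W hW) →
      BCok (j ∣_ B) f₁ (g'.resLE B W hW) g₁) :
    BCok j (pullback.fst g' j) g' (pullback.snd g' j) := by
  let j' := pullback.fst g' j
  let g'' := pullback.snd g' j
  have hsq : IsPullback g'' j' j g' := (IsPullback.of_hasPullback g' j).flip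
  refine bcok_of_local hsq fun x' => ?_
  obtain ⟨B, hB, hxB, -⟩ := exists_isAffineOpen_mem_and_subset (x := g' x') (U := (⊤ : X.Opens)) trivial
  obtain ⟨W, hW, hx, hWB⟩ := exists_isAffineOpen_mem_and_subset (x := x') (U := g' ⁻¹ᵁ B) hxB
  have hU : j' ⁻¹ᵁ W ≤ g'' ⁻¹ᵁ (j ⁻¹ᵁ B) := fun z hz => by
    show (g'' ≫ j) z ∈ B
    rw [hsq.w]
    exact hWB hz
  refine ⟨B, W, hWB, hU, hx, h B hB W hW _ (j' ∣_ W) (g''.resLE (j ⁻¹ᵁ B) (j' ⁻¹ᵁ W) hU) hWB ?_⟩
  exact isPullback_restrict hsq hWB hU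

end Induction

end Groth.Agent.BC49
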