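import Mathlib.CategoryTheory.Adjunction.Unique
import Mathlib.CategoryTheory.Adjunction.FullyFaithful
import Mathlib.CategoryTheory.NatIso

/-!
Mates of natural transformations between left adjoints: the base change morphism, pasting of squares.
-/

set_option autoImplicit false

noncomputable section

open CategoryTheory

namespace Groth.Agent.BC49

universe v₁ v₂ v₃ v₄ v₅ v₆ u₁ u₂ u₃ u₄ u₅ u₆

variable {A : Type u₁} [Category.{v₁} A] {B : Type u₂} [Category.{v₂} B] {A' : Type u₃} [Category.{v₃} A']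
  {B' : Type u₄} [Category.{v₄} B']
  {Lf : B ⥤ A} {Rf : A ⥤ B} {Lf' : B' ⥤ A'} {Rf' : A' ⥤ B'} {Lg : B ⥤ B'} {Lg' : A ⥤ A'}

/-- The mate `Lg Rf ⟶ Rf' Lg'` of `θ : Lf' Lg ⟶ Lg' Lf`. -/
def bc (af : Lf ⊣ Rf) (af' : Lf' ⊣ Rf') (θ : Lg ⋙ Lf' ⟶ Lf ⋙ Lg') : Rf ⋙ Lg ⟶ Lg' ⋙ Rf' where
  app E := af'.homEquiv _ _ (θ.app (Rf.obj E) ≫ Lg'.map (af.counit.app E))
  naturality {E E'} g := by
    dsimp only [Functor.comp_obj, Functor.comp_map]
    rw [← af'.homEquiv_naturality_left, ← af'.homEquiv_naturality_right]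
    congr 1
    have h := θ.naturality (Rf.map g)
    dsimp only [Functor.comp_obj, Functor.comp_map] at h
    rw [reassoc_of% h, Category.assoc, ← Functor.map_comp, ← Functor.map_comp]
    congr 2
    exact af.counit.naturality g

variable (af : Lf ⊣ Rf) (af' : Lf' ⊣ Rf') (θ : Lg ⋙ Lf' ⟶ Lf ⋙ Lg')

lemma bc_app (E : A) :
    (bc af af' θ).app E = af'.homEquiv _ _ (θ.app (Rf.obj E) ≫ Lg'.map (af.counit.app E)) := rfl

lemma symm_bc_app (E : A) :
    (af'.homEquiv (Lg.obj (Rf.obj E)) (Lg'.obj E)).symm ((bc af af' θ).app E) = θ.app (Rf.obj E) ≫ Lg'.map (af.counit.app E) :=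
  Equiv.symm_apply_apply _ _

/-- The mate against an arbitrary transposed map. -/
lemma bc_homEquiv {M : B} {E : A} (φ : Lf.obj M ⟶ E) :
    Lg.map (af.homEquiv _ _ φ) ≫ (bc af af' θ).app E = af'.homEquiv _ _ (θ.app M ≫ Lg'.map φ) := by
  have h := θ.naturality (af.homEquiv _ _ φ)
  dsimp only [Functor.comp_obj, Functor.comp_map] at h
  rw [bc_app]
  refine (af'.homEquiv_naturality_left _ _).symm.trans (congrArg (af'.homEquiv _ _) ?_)
  rw [reassoc_of% h]
  refine congrArg (θ.app M ≫ ·) ?_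
  refine (Lg'.map_comp _ _).symm.trans (congrArg Lg'.map ?_)
  exact (af.homEquiv_counit _ _ _).symm.trans (Equiv.symm_apply_apply _ _)

/-- The mate against the unit. -/
lemma bc_unit (M : B) :
    Lg.map (af.unit.app M) ≫ (bc af af' θ).app (Lf.obj M) =
      af'.unit.app (Lg.obj M) ≫ Rf'.map (θ.app M) := by
  have h := bc_homEquiv af af' θ (𝟙 (Lf.obj M))
  rw [af.homEquiv_id, Functor.map_id] at h
  refine h.trans ((af'.homEquiv_unit _ _ _).trans ?_)
  exact congrArg (fun t => af'.unit.app _ ≫ Rf'.map t) (Category.comp_id _)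

section Exchange

variable {Rg : B' ⥤ B} {Rg' : A' ⥤ A}

/-- The identification of the composite right adjoints attached to `θ`. -/
def exch (ag : Lg ⊣ Rg) (ag' : Lg' ⊣ Rg') (θ : Lg ⋙ Lf' ≅ Lf ⋙ Lg') : Rg' ⋙ Rf ≅ Rf' ⋙ Rg :=
  (af.comp ag').rightAdjointUniq ((ag.comp af').ofNatIsoLeft θ)

/-- The mate is the base change morphism built from the identification `exch`. -/
lemma bc_eq_exch (ag : Lg ⊣ Rg) (ag' : Lg' ⊣ Rg') (θ : Lg ⋙ Lf' ≅ Lf ⋙ Lg') (E : A) :
    (ag.homEquiv _ _).symm (Rf.map (ag'.unit.app E) ≫ (exch af af' ag ag' θ).hom.app (Lg'.obj E)) =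
      (bc af af' θ.hom).app E := by
  rw [Equiv.symm_apply_eq]
  let a₂ := (ag.comp af').ofNatIsoLeft θ
  have h1 : (a₂.homEquiv _ _).symm ((exch af af' ag ag' θ).hom.app (Lg'.obj E)) =
      (af.comp ag').counit.app (Lg'.obj E) :=
    Adjunction.homEquiv_symm_rightAdjointUniq_hom_app _ _ _
  rw [Equiv.symm_apply_eq] at h1
  rw [h1]
  refine (a₂.homEquiv_naturality_left _ _).symm.trans ?_
  have h2 : (Lf ⋙ Lg').map (Rf.map (ag'.unit.app E)) ≫ (af.comp ag').counit.app (Lg'.obj E) =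
      Lg'.map (af.counit.app E) := by
    simp only [Functor.comp_map, Functor.comp_obj, Functor.id_obj, Adjunction.comp_counit_app]
    rw [← Category.assoc, ← Functor.map_comp, af.counit_naturality, Functor.map_comp, Category.assoc,
      ag'.left_triangle_components, Category.comp_id]
  rw [h2, bc_app]
  simp [a₂, Adjunction.ofNatIsoLeft, Adjunction.comp, Adjunction.homEquiv_unit, Adjunction.mkOfHomEquiv]

end Exchange

section Vertical

variable {A₀ : Type u₅} [Category.{v₅} A₀] {A₀' : Type u₆} [Category.{v₆} A₀']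
  {Lj : A ⥤ A₀} {Rj : A₀ ⥤ A} {Lj' : A' ⥤ A₀'} {Rj' : A₀' ⥤ A'} {Lg'' : A₀ ⥤ A₀'}
  (aj : Lj ⊣ Rj) (aj' : Lj' ⊣ Rj') (θj : Lg' ⋙ Lj' ⟶ Lj ⋙ Lg'')

/-- Vertical composite of two squares. -/
def vComp : Lg ⋙ (Lf' ⋙ Lj') ⟶ (Lf ⋙ Lj) ⋙ Lg'' :=
  (Functor.associator _ _ _).inv ≫ Functor.whiskerRight θ Lj' ≫ (Functor.associator _ _ _).hom ≫
    Functor.whiskerLeft Lf θj ≫ (Functor.associator _ _ _).inv

lemma vComp_app (M : B) : (vComp θ θj).app M = Lj'.map (θ.app M) ≫ θj.app (Lf.obj M) := by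
  simp [vComp]

/-- The mate of a vertical composite. -/
lemma bc_vComp (E : A₀) :
    (bc (af.comp aj) (af'.comp aj') (vComp θ θj)).app E =
      (bc af af' θ).app (Rj.obj E) ≫ Rf'.map ((bc aj aj' θj).app E) := by
  have h := θj.naturality (af.counit.app (Rj.obj E))
  dsimp only [Functor.comp_obj, Functor.comp_map, Functor.id_obj] at h
  rw [bc_app, bc_app, bc_app, Adjunction.comp_homEquiv]
  dsimp only [Equiv.trans_apply, Functor.comp_obj, Functor.id_obj]
  rw [← af'.homEquiv_naturality_right]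
  congr 1
  rw [← aj'.homEquiv_naturality_left]
  congr 1
  rw [vComp_app, Adjunction.comp_counit_app]
  simp only [Functor.map_comp, Category.assoc, reassoc_of% h]

/-- A map out of `Lg' K`, transported to the top square through the unit. -/
lemma bc_comp_vComp_unit (θj' : Lj ⋙ Lg'' ⟶ Lg' ⋙ Lj') (hθ : ∀ K, θj.app K ≫ θj'.app K = 𝟙 _)
    {K : A} {T : A'} (c : Lg'.obj K ⟶ T) :
    Lg.map (Rf.map (aj.unit.app K)) ≫ (bc (af.comp aj) (af'.comp aj') (vComp θ θj)).app (Lj.obj K) ≫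
        Rf'.map (Rj'.map (θj'.app K ≫ Lj'.map c)) =
      (bc af af' θ).app K ≫ Rf'.map (c ≫ aj'.unit.app T) := by
  have h := (bc af af' θ).naturality (aj.unit.app K)
  dsimp only [Functor.comp_obj, Functor.comp_map, Functor.id_obj] at h
  have hh := aj'.unit.naturality c
  rw [bc_vComp, Category.assoc, reassoc_of% h, ← Functor.map_comp, ← Functor.map_comp]
  congr 2
  rw [← Category.assoc, bc_unit, Category.assoc, ← Functor.map_comp, reassoc_of% (hθ K)]
  exact hh.symm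

end Vertical

section Horizontal

variable {A'' : Type u₅} [Category.{v₅} A''] {B'' : Type u₆} [Category.{v₆} B'']
  {Lf'' : B'' ⥤ A''} {Rf'' : A'' ⥤ B''} {Lw : B' ⥤ B''} {Lw' : A' ⥤ A''}
  (af'' : Lf'' ⊣ Rf'') (θw : Lw ⋙ Lf'' ⟶ Lf' ⋙ Lw')

/-- Horizontal composite of two squares. -/
def hComp : (Lg ⋙ Lw) ⋙ Lf'' ⟶ Lf ⋙ (Lg' ⋙ Lw') :=
  (Functor.associator _ _ _).hom ≫ Functor.whiskerLeft Lg θw ≫ (Functor.associator _ _ _).inv ≫
    Functor.whiskerRight θ Lw' ≫ (Functor.associator _ _ _).hom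

lemma hComp_app (M : B) : (hComp θ θw).app M = θw.app (Lg.obj M) ≫ Lw'.map (θ.app M) := by
  simp [hComp]

/-- The mate of a horizontal composite. -/
lemma bc_hComp (E : A) :
    (bc af af'' (hComp θ θw)).app E =
      Lw.map ((bc af af' θ).app E) ≫ (bc af' af'' θw).app (Lg'.obj E) := by
  apply (af''.homEquiv _ _).symm.injective
  refine (symm_bc_app af af'' (hComp θ θw) E).trans ?_
  refine Eq.trans ?_ (af''.homEquiv_naturality_left_symm _ _).symm
  refine Eq.trans ?_ (congrArg (Lf''.map (Lw.map ((bc af af' θ).app E)) ≫ ·)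
    (symm_bc_app af' af'' θw (Lg'.obj E)).symm)
  have h := θw.naturality ((bc af af' θ).app E)
  dsimp only [Functor.comp_obj, Functor.comp_map, Functor.id_obj] at h ⊢
  rw [reassoc_of% h, ← Functor.map_comp, ← af'.homEquiv_counit, symm_bc_app, hComp_app]
  simp

end Horizontal

section Transport

/-- Change of the horizontal functors. -/
lemma bc_change_g {Lg₂ : B ⥤ B'} {Lg₂' : A ⥤ A'} (h : Lg₂ ⟶ Lg) (h' : Lg' ⟶ Lg₂')
    (θ₂ : Lg₂ ⋙ Lf' ⟶ Lf ⋙ Lg₂')
    (hθ : ∀ M, θ₂.app M = Lf'.map (h.app M) ≫ θ.app M ≫ h'.app (Lf.obj M)) (E : A) :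
    (bc af af' θ₂).app E = h.app (Rf.obj E) ≫ (bc af af' θ).app E ≫ Rf'.map (h'.app E) := by
  apply (af'.homEquiv _ _).symm.injective
  dsimp only [Functor.comp_obj, Functor.id_obj]
  rw [symm_bc_app, hθ, af'.homEquiv_naturality_left_symm, af'.homEquiv_naturality_right_symm, symm_bc_app]
  have hn := h'.naturality (af.counit.app E)
  dsimp only [Functor.comp_obj, Functor.comp_map, Functor.id_obj] at hn ⊢
  rw [Category.assoc, Category.assoc, Category.assoc, hn]

variable {Lf₂ : B ⥤ A} {Rf₂ : A ⥤ B} {Lf₂' : B' ⥤ A'} {Rf₂' : A' ⥤ B'}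

/-- Change of the vertical adjunctions. -/
lemma bc_change_f (af₂ : Lf₂ ⊣ Rf₂) (af₂' : Lf₂' ⊣ Rf₂') (l : Lf₂ ≅ Lf) (l' : Lf₂' ≅ Lf')
    (θ₂ : Lg ⋙ Lf₂' ⟶ Lf₂ ⋙ Lg')
    (hθ : ∀ M, θ₂.app M = l'.hom.app (Lg.obj M) ≫ θ.app M ≫ Lg'.map (l.inv.app M)) (E : A) :
    Lg.map (((af.ofNatIsoLeft l.symm).rightAdjointUniq af₂).hom.app E) ≫ (bc af₂ af₂' θ₂).app E =
      (bc af af' θ).app E ≫ ((af'.ofNatIsoLeft l'.symm).rightAdjointUniq af₂').hom.app (Lg'.obj E) := by
  apply (af₂'.homEquiv _ _).symm.injective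
  rw [af₂'.homEquiv_naturality_left_symm, af₂'.homEquiv_naturality_left_symm, symm_bc_app]
  refine Eq.trans ?_ (congrArg (Lf₂'.map ((bc af af' θ).app E) ≫ ·)
    (Adjunction.homEquiv_symm_rightAdjointUniq_hom_app (af'.ofNatIsoLeft l'.symm) af₂' (Lg'.obj E)).symm)
  have key : ∀ (L : B' ⥤ A') (R : A' ⥤ B') (ad : L ⊣ R) (L₂ : B' ⥤ A') (i : L₂ ≅ L) (Z : A'),
      (ad.ofNatIsoLeft i.symm).counit.app Z = i.hom.app (R.obj Z) ≫ ad.counit.app Z := by
    intro L R ad L₂ i Z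
    simp [Adjunction.ofNatIsoLeft, Adjunction.homEquiv_counit, Adjunction.mkOfHomEquiv]
  rw [key]
  have hc : Lf₂.map (((af.ofNatIsoLeft l.symm).rightAdjointUniq af₂).hom.app E) ≫ af₂.counit.app E =
      l.hom.app (Rf.obj E) ≫ af.counit.app E := by
    rw [Adjunction.rightAdjointUniq_hom_app_counit]
    simp [Adjunction.ofNatIsoLeft, Adjunction.homEquiv_counit, Adjunction.mkOfHomEquiv]
  have hn := θ₂.naturality (((af.ofNatIsoLeft l.symm).rightAdjointUniq af₂).hom.app E)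
  have hl := l'.hom.naturality ((bc af af' θ).app E)
  dsimp only [Functor.comp_obj, Functor.comp_map, Functor.id_obj] at hn hl ⊢
  rw [reassoc_of% hn, ← Functor.map_comp, hc, reassoc_of% hl, ← af'.homEquiv_counit, symm_bc_app, hθ,
    Category.assoc, Category.assoc, ← Functor.map_comp, Iso.inv_hom_id_app_assoc]

end Transport

section Lift

variable {C : Type u₅} [Category.{v₅} C] {Lv : B ⥤ A} {Rv : A ⥤ B} (av : Lv ⊣ Rv) [IsIso av.counit]

/-- A transformation after a reflection descends. -/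
def descend {P Q : A ⥤ C} (α : Lv ⋙ P ≅ Lv ⋙ Q) : P ≅ Q :=
  NatIso.ofComponents (fun M => P.mapIso ((asIso av.counit).app M).symm ≪≫ α.app (Rv.obj M) ≪≫
      Q.mapIso ((asIso av.counit).app M))
    (fun {M N} f => by
      simp only [Iso.trans_hom, Functor.mapIso_hom, Iso.symm_hom, Iso.app_hom, Iso.app_inv, asIso_hom, asIso_inv,
        Category.assoc]
      have h1 : f ≫ (inv av.counit).app N = (inv av.counit).app M ≫ Lv.map (Rv.map f) :=
        (inv av.counit).naturality f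
      have h2 := α.hom.naturality (Rv.map f)
      dsimp only [Functor.comp_obj, Functor.comp_map, Functor.id_obj] at h2
      rw [← Functor.map_comp_assoc, h1, Functor.map_comp_assoc, reassoc_of% h2, ← Functor.map_comp,
        ← Functor.map_comp]
      congr 3
      exact av.counit.naturality f)

lemma descend_app {P Q : A ⥤ C} (α : Lv ⋙ P ≅ Lv ⋙ Q) (M : B) :
    (descend av α).hom.app (Lv.obj M) = α.hom.app M := by
  have h := α.hom.naturality (av.unit.app M)
  dsimp only [Functor.comp_obj, Functor.comp_map, Functor.id_obj] at h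
  have h1 : (inv av.counit).app (Lv.obj M) = Lv.map (av.unit.app M) := by
    rw [NatIso.isIso_inv_app]
    exact IsIso.inv_eq_of_inv_hom_id (av.left_triangle_components M)
  simp only [descend, NatIso.ofComponents_hom_app, Iso.trans_hom, Functor.mapIso_hom, Iso.symm_hom, Iso.app_inv,
    Iso.app_hom, asIso_inv, asIso_hom]
  rw [h1, reassoc_of% h, ← Functor.map_comp, av.left_triangle_components]
  exact (congrArg (α.hom.app M ≫ ·) (Q.map_id _)).trans (Category.comp_id _)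

end Lift

end Groth.Agent.BC49
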