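import Groth.Agent.BC49.Core

/-!
**Base change for derived direct images** along quasi-compact quasi-separated morphisms.
-/

set_option autoImplicit false
set_option backward.isDefEq.respectTransparency false
set_option backward.isDefEq.respectTransparency.types false
set_option linter.style.haveILetI false

noncomputable section

universe u

open CategoryTheory CategoryTheory.Limits AlgebraicGeometry
attribute [local instance] HasDerivedCategory.standard Groth.Agent.DCX42.hasRpush Groth.Agent.DCK91.hasLpull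

namespace Groth.Agent.BC49

variable {X Y X' Y' : Scheme.{u}} {f : X ⟶ Y} {f' : X' ⟶ Y'} {g : Y' ⟶ Y} {g' : X' ⟶ X}

/-- Base change over affine bases for a separated quasi-compact source. -/
theorem bcok_separated [CompactSpace X] [X.IsSeparated] [IsAffine Y] [IsAffine Y'] (hsq : IsPullback g' f' f g)
    (hTI : TI f g) : BCok f f' g g' := by
  refine bcok_step hsq hTI fun A _ j _ => bcok_open g' j fun B hB W hW A'' f₁ g₁ hWB h => ?_
  haveI : IsAffine B.toScheme := hB
  haveI : IsAffine W.toScheme := hW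
  have hjB : IsAffineOpen (j ⁻¹ᵁ B) := by
    have h1 : IsAffineOpen (j.opensRange ⊓ B) := (isAffineOpen_opensRange j).inf hB
    rw [← Scheme.Hom.image_preimage_eq_opensRange_inf] at h1
    exact j.isAffineOpen_iff_of_isOpenImmersion.1 h1
  haveI : IsAffine (j ⁻¹ᵁ B).toScheme := hjB
  exact bcok_affine h (TI_of_flat _ _)

/-- Base change over affine bases for a quasi-compact quasi-separated source. -/
theorem bcok_qcqs [CompactSpace X] [QuasiSeparatedSpace X] [IsAffine Y] [IsAffine Y'] (hsq : IsPullback g' f' f g)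
    (hTI : TI f g) : BCok f f' g g' := by
  refine bcok_step hsq hTI fun A _ j _ => ?_
  refine bcok_open g' j fun B hB W hW A'' f₁ g₁ hWB h => ?_
  haveI : IsAffine B.toScheme := hB
  haveI : IsAffine W.toScheme := hW
  haveI : CompactSpace (j ⁻¹ᵁ B).toScheme :=
    isCompact_iff_compactSpace.1 (j.isCompact_preimage hB.isCompact)
  haveI : (j ⁻¹ᵁ B).toScheme.IsSeparated := ⟨by
    rw [← terminal.comp_from (j ⁻¹ᵁ B).ι]
    infer_instance⟩
  exact bcok_separated h (TI_of_flat _ _)

/-- **Base change** along a quasi-compact quasi-separated morphism, Tor independent on affine opens. -/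
theorem bcok_of_TI [QuasiCompact f] [QuasiSeparated f] (hsq : IsPullback g' f' f g)
    (hTI : ∀ (V : Y.Opens), IsAffineOpen V → ∀ (W : Y'.Opens), IsAffineOpen W → ∀ (hW : W ≤ g ⁻¹ᵁ V),
      TI (f ∣_ V) (g.resLE V W hW)) :
    BCok f f' g g' := by
  refine bcok_of_local hsq fun y' => ?_
  obtain ⟨V, hV, hyV, -⟩ := exists_isAffineOpen_mem_and_subset (x := g y') (U := (⊤ : Y.Opens)) trivial
  obtain ⟨W, hW, hy, hWV⟩ := exists_isAffineOpen_mem_and_subset (x := y') (U := g ⁻¹ᵁ V) hyV
  have hU : f' ⁻¹ᵁ W ≤ g' ⁻¹ᵁ (f ⁻¹ᵁ V) := fun z hz => by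
    show (g' ≫ f) z ∈ V
    rw [hsq.w]
    exact hWV hz
  refine ⟨V, W, hWV, hU, hy, ?_⟩
  haveI : IsAffine V.toScheme := hV
  haveI : IsAffine W.toScheme := hW
  haveI : CompactSpace (f ⁻¹ᵁ V).toScheme :=
    isCompact_iff_compactSpace.1 (f.isCompact_preimage hV.isCompact)
  haveI : QuasiSeparatedSpace (f ⁻¹ᵁ V).toScheme := quasiSeparatedSpace_of_quasiSeparated (f ∣_ V)
  exact bcok_qcqs (isPullback_restrict hsq hWV hU) (hTI V hV W hW hWV)

/-- The identification of composite direct images making the base change morphism invertible. -/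
theorem exists_exch [DCoh.HasRpush f] [DCoh.HasRpush g] [DCoh.HasLpull g] [DCoh.HasRpush f'] [DCoh.HasRpush g']
    [DCoh.HasLpull g'] (hsq : IsPullback g' f' f g) (h : BCok f f' g g')
    (adjg : DCoh.Lpull g ⊣ DCoh.Rpush g) (adjg' : DCoh.Lpull g' ⊣ DCoh.Rpush g') :
    ∃ e : DCoh.Rpush g' ⋙ DCoh.Rpush f ≅ DCoh.Rpush f' ⋙ DCoh.Rpush g,
      ∀ E : DCoh.D X, DCoh.IsQCohD E → IsIso (DCoh.baseChangeApp adjg adjg' e E) := by
  obtain ⟨θ⟩ := nonempty_theta hsq.w
  refine ⟨exch (adjLR f) (adjLR f') adjg adjg' θ, fun E hE => ?_⟩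
  have h1 := bc_eq_exch (adjLR f) (adjLR f') adjg adjg' θ E
  have h2 := h θ E hE
  show IsIso ((adjg.homEquiv _ _).symm _)
  erw [h1]
  exact h2

end Groth.Agent.BC49
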