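import Groth.Agent.BC49.Formal
import Groth.Agent.DPF49.LocalMain
import Groth.Agent.DCX42.PushAdj
import Groth.Agent.QCohPush72.HomBound
import Mathlib.CategoryTheory.Adjunction.Triple
import Mathlib.CategoryTheory.Shift.CommShift

/-!
Derived direct and inverse images along open immersions, and base change along them.
-/

set_option autoImplicit false
set_option backward.isDefEq.respectTransparency false
set_option backward.isDefEq.respectTransparency.types false
set_option linter.style.haveILetI false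

noncomputable section

universe u

open CategoryTheory CategoryTheory.Limits CategoryTheory.Pretriangulated AlgebraicGeometry
attribute [local instance] HasDerivedCategory.standard Groth.Agent.DCX42.hasRpush Groth.Agent.DCK91.hasLpull

namespace Groth.Agent.BC49

variable {U X Y : Scheme.{u}}

/-- The adjunction of derived inverse and direct images. -/
abbrev adjLR (f : X ⟶ Y) : DCoh.Lpull f ⊣ DCoh.Rpush f := DCX42.LpullRpushAdj f

/-- For an open immersion the counit `Lj^* Rj_* ⟶ 1` is invertible. -/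
theorem isIso_counit (j : U ⟶ X) [IsOpenImmersion j] : IsIso (adjLR j).counit := by
  obtain ⟨e⟩ := DCX42.nonempty_Lpull_iso_resD j
  let A := (adjLR j).ofNatIsoLeft e
  obtain ⟨k⟩ := DPF49.nonempty_ezD_resD j
  haveI : IsIso (DPF49.ezAdj j).unit := Adjunction.isIso_unit_of_iso (DPF49.ezAdj j) k
  haveI : IsIso A.counit :=
    ((⟨DPF49.ezAdj j, A⟩ : Adjunction.Triple (DPF49.ezD j) (DCX42.resD j) (DCoh.Rpush j)).isIso_unit_iff_isIso_counit).1
      inferInstance
  have hA : ∀ E, A.counit.app E = e.inv.app ((DCoh.Rpush j).obj E) ≫ (adjLR j).counit.app E := fun E => by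
    simp [A, Adjunction.ofNatIsoLeft, Adjunction.homEquiv_counit, Adjunction.mkOfHomEquiv]
  haveI : ∀ E, IsIso ((adjLR j).counit.app E) := fun E => by
    haveI : IsIso (e.inv.app ((DCoh.Rpush j).obj E) ≫ (adjLR j).counit.app E) := by
      rw [← hA]; infer_instance
    exact IsIso.of_isIso_comp_left (e.inv.app ((DCoh.Rpush j).obj E)) _
  exact NatIso.isIso_of_isIso_app _

/-- The unit becomes invertible after `Lj^*`. -/
theorem isIso_Lpull_unit (j : U ⟶ X) [IsOpenImmersion j] (K : DCoh.D X) :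
    IsIso ((DCoh.Lpull j).map ((adjLR j).unit.app K)) := by
  haveI := isIso_counit j
  haveI := IsIso.id ((DCoh.Lpull j).obj K)
  exact IsIso.of_isIso_fac_right (hh := IsIso.id _) ((adjLR j).left_triangle_components K)

/-- Direct images from an open are reflexive. -/
theorem isIso_unit_of_iso (j : U ⟶ X) [IsOpenImmersion j] {K : DCoh.D X} {M : DCoh.D U}
    (i : K ≅ (DCoh.Rpush j).obj M) : IsIso ((adjLR j).unit.app K) := by
  haveI := isIso_counit j
  haveI : IsIso ((adjLR j).unit.app ((DCoh.Rpush j).obj M)) :=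
    IsIso.of_isIso_fac_right (hh := IsIso.id _) ((adjLR j).right_triangle_components M)
  exact (NatTrans.isIso_app_iff_of_iso _ i).2 this

/-- Inverse image along an open immersion and restriction invert the same maps. -/
theorem isIso_Lpull_iff (j : U ⟶ X) [IsOpenImmersion j] {K L : DCoh.D X} (d : K ⟶ L) :
    IsIso ((DCoh.Lpull j).map d) ↔ IsIso ((DCX42.resD j).map d) := by
  obtain ⟨e⟩ := DCX42.nonempty_Lpull_iso_resD j
  exact NatIso.isIso_map_iff e d

/-- Restriction along an isomorphism reflects isomorphisms. -/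
theorem isIso_of_resD_isIso {W : Scheme.{u}} (g : W ⟶ X) [IsIso g] {K L : DCoh.D X} (d : K ⟶ L)
    (h : IsIso ((DCX42.resD g).map d)) : IsIso d := by
  let e : DCX42.resD g ⋙ DCX42.resD (inv g) ≅ 𝟭 _ :=
    DCX42.resDComp (inv g) g ≪≫ DCX42.resDCongr (IsIso.inv_hom_id g) ≪≫ QCohPush72.resDId X
  exact (NatIso.isIso_map_iff e d).1 (inferInstanceAs (IsIso ((DCX42.resD (inv g)).map ((DCX42.resD g).map d))))

/-- Restriction only depends on the range. -/
theorem isIso_resD_range (j : U ⟶ X) [IsOpenImmersion j] {V : X.Opens} (hV : j.opensRange = V) {K L : DCoh.D X}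
    (d : K ⟶ L) : IsIso ((DCX42.resD j).map d) ↔ IsIso ((DCX42.resD V.ι).map d) := by
  let i := j.isoOpensRange ≪≫ X.isoOfEq hV
  let e : DCX42.resD V.ι ⋙ DCX42.resD i.hom ≅ DCX42.resD j :=
    DCX42.resDComp i.hom V.ι ≪≫ DCX42.resDCongr (by simp [i])
  constructor
  · intro h
    exact isIso_of_resD_isIso i.hom _ ((NatIso.isIso_map_iff e d).2 h)
  · intro h
    exact (NatIso.isIso_map_iff e d).1 (inferInstanceAs (IsIso ((DCX42.resD i.hom).map ((DCX42.resD V.ι).map d))))

/-- Direct images are local on the base. -/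
theorem isIso_res_Rpush (f : X ⟶ Y) (V : Y.Opens) {K L : DCoh.D X} (d : K ⟶ L)
    (h : IsIso ((DCX42.resD (f ⁻¹ᵁ V).ι).map d)) : IsIso ((DCX42.resD V.ι).map ((DCoh.Rpush f).map d)) := by
  obtain ⟨e⟩ := DCX42.nonempty_Rpush_restrict f V
  exact (NatIso.isIso_map_iff e d).2
    (inferInstanceAs (IsIso ((DCoh.Rpush (f ∣_ V)).map ((DCX42.resD (f ⁻¹ᵁ V).ι).map d))))

/-- Direct images along open immersions commute with shifts. -/
theorem nonempty_Rpush_shift (j : U ⟶ X) [IsOpenImmersion j] (M : DCoh.D U) (m : ℤ) :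
    Nonempty ((DCoh.Rpush j).obj (M⟦m⟧) ≅ ((DCoh.Rpush j).obj M)⟦m⟧) := by
  obtain ⟨e⟩ := DCX42.nonempty_Lpull_iso_resD j
  let A := (adjLR j).ofNatIsoLeft e
  let sU := (shiftEquiv' (DCoh.D U) (-m) m (neg_add_cancel m)).toAdjunction
  let sX := (shiftEquiv' (DCoh.D X) (-m) m (neg_add_cancel m)).toAdjunction
  let i := ((Scheme.Modules.restrictFunctor j).mapDerivedCategory.commShiftIso (-m))
  exact ⟨((A.comp sU).rightAdjointUniq ((sX.comp A).ofNatIsoLeft i)).app M⟩

section BaseChange

variable {X' Y' : Scheme.{u}} {f : X ⟶ Y} {f'' : X' ⟶ Y'} {w : Y' ⟶ Y} {w' : X' ⟶ X}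

/-- **Base change along an open immersion.** -/
theorem isIso_bc_openImmersion [IsOpenImmersion w] [IsOpenImmersion w'] (hsq : IsPullback w' f'' f w)
    (θ : DCoh.Lpull w ⋙ DCoh.Lpull f'' ≅ DCoh.Lpull f ⋙ DCoh.Lpull w') (G : DCoh.D X) :
    IsIso ((bc (adjLR f) (adjLR f'') θ.hom).app G) := by
  rw [← bc_eq_exch (adjLR f) (adjLR f'') (adjLR w) (adjLR w') θ G, Adjunction.homEquiv_counit]
  haveI := isIso_counit w
  have hr : w'.opensRange = f ⁻¹ᵁ w.opensRange := by
    rw [← Scheme.Hom.opensRange_pullbackFst w f,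
      ← Scheme.Hom.opensRange_comp_of_isIso hsq.isoPullback.hom (pullback.fst f w)]
    simp only [IsPullback.isoPullback_hom_fst]
  haveI : IsIso ((DCoh.Lpull w).map ((DCoh.Rpush f).map ((adjLR w').unit.app G))) := by
    rw [isIso_Lpull_iff, isIso_resD_range w rfl]
    refine isIso_res_Rpush f _ _ ?_
    rw [← isIso_resD_range w' hr, ← isIso_Lpull_iff]
    exact isIso_Lpull_unit w' G
  rw [Functor.map_comp]
  infer_instance

end BaseChange

end Groth.Agent.BC49
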